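import Mathlib
import Cfsg.Agent.TwoGroup.UniqueInvolution

/-!
An automorphism of order at most two whose fixed 2-subgroups are cyclic of order at most four.
-/

set_option autoImplicit false
set_option linter.style.haveILetI false

open MulAction Pointwise

namespace CfsgLib.CyclicFourFix23

variable {A : Type*} [Group A]

/-- The standing hypothesis: `σ` is involutive, its fixed 2-subgroups are cyclic of order at most four,
and `f` is a fixed element of order four. -/
structure FixHyp (σ : MulAut A) (f : A) : Prop where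
  sq : ∀ a, σ (σ a) = a
  fix2 : ∀ P : Subgroup A, IsPGroup 2 P → (∀ x ∈ P, σ x = x) → IsCyclic P ∧ Nat.card P ≤ 4
  f_fix : σ f = f
  f_ord : orderOf f = 4

/-- Fixed points of an automorphism. -/
def fixedSubgroup (σ : MulAut A) : Subgroup A where
  carrier := {x | σ x = x}
  one_mem' := map_one σ
  mul_mem' := fun {a b} (ha : σ a = a) (hb : σ b = b) => show σ (a * b) = a * b by rw [map_mul, ha, hb]
  inv_mem' := fun {a} (ha : σ a = a) => show σ a⁻¹ = a⁻¹ by rw [map_inv, ha]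

theorem mem_fixedSubgroup {σ : MulAut A} {x : A} : x ∈ fixedSubgroup σ ↔ σ x = x := Iff.rfl

namespace FixHyp

variable {σ : MulAut A} {f : A} (H : FixHyp σ f)
include H

theorem z_fix : σ (f * f) = f * f := by rw [map_mul, H.f_fix]

theorem orderOf_z : orderOf (f * f) = 2 := by
  rw [← pow_two, orderOf_pow' f two_ne_zero, H.f_ord]; rfl

theorem z_sq : f * f * (f * f) = 1 := by
  rw [← pow_two (f * f), ← H.orderOf_z]; exact pow_orderOf_eq_one _

theorem z_inv : (f * f)⁻¹ = f * f := inv_eq_of_mul_eq_one_right H.z_sq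

theorem z_ne_one : f * f ≠ 1 := fun h => by
  have := H.orderOf_z; rw [h, orderOf_one] at this; omega

theorem f_ne_one : f ≠ 1 := fun h => H.z_ne_one (by rw [h, one_mul])

theorem f_inv : f⁻¹ = f * (f * f) := inv_eq_of_mul_eq_one_right (by rw [← mul_assoc]; exact H.z_sq)

/-- In a 2-subgroup containing `f`, the fixed elements are the powers of `f`. -/
theorem fixed_mem [Finite A] {T : Subgroup A} (hT : IsPGroup 2 T) (hf : f ∈ T) {x : A} (hx : x ∈ T)
    (hσ : σ x = x) : x = 1 ∨ x = f ∨ x = f * f ∨ x = f * (f * f) := by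
  set P := T ⊓ fixedSubgroup σ with hP
  have hz : Subgroup.zpowers f ≤ P := Subgroup.zpowers_le.mpr ⟨hf, H.f_fix⟩
  obtain ⟨-, h4⟩ := H.fix2 P (hT.to_le inf_le_left) (fun y hy => hy.2)
  have heq : Subgroup.zpowers f = P := by
    refine Subgroup.eq_of_le_of_card_ge hz ?_
    rw [Nat.card_zpowers, H.f_ord]
    exact h4
  have hxP : x ∈ Subgroup.zpowers f := heq ▸ (⟨hx, hσ⟩ : x ∈ P)
  obtain ⟨k, hk⟩ := Subgroup.mem_zpowers_iff.mp hxP
  rw [← zpow_mod_orderOf, H.f_ord] at hk
  have h0 := Int.emod_nonneg k (by norm_num : ((4 : ℕ) : ℤ) ≠ 0)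
  have h1 := Int.emod_lt_of_pos k (by norm_num : (0 : ℤ) < ((4 : ℕ) : ℤ))
  generalize hm : k % ((4 : ℕ) : ℤ) = m at hk h0 h1
  push_cast at h1
  interval_cases m
  · left; rw [← hk, zpow_zero]
  · right; left; rw [← hk, zpow_one]
  · right; right; left; rw [← hk]; exact zpow_two f
  · right; right; right
    rw [← hk, show (3 : ℤ) = ((3 : ℕ) : ℤ) from rfl, zpow_natCast, pow_succ, pow_two, mul_assoc]

theorem fixed_involution [Finite A] {T : Subgroup A} (hT : IsPGroup 2 T) (hf : f ∈ T) {x : A}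
    (hx : x ∈ T) (hσ : σ x = x) (hx2 : x * x = 1) : x = 1 ∨ x = f * f := by
  rcases H.fixed_mem hT hf hx hσ with h | h | h | h
  · exact Or.inl h
  · rw [h] at hx2; exact absurd hx2 H.z_ne_one
  · exact Or.inr h
  · rw [← H.f_inv] at h
    rw [h, ← mul_inv_rev, inv_eq_one] at hx2
    exact absurd hx2 H.z_ne_one

end FixHyp

/-- An invariant nontrivial 2-subgroup contains a nontrivial fixed element. -/
theorem exists_fixed_ne_one [Finite A] {σ : MulAut A} (hσ : ∀ a, σ (σ a) = a) {P : Subgroup A}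
    (hP : IsPGroup 2 P) (hinv : ∀ x ∈ P, σ x ∈ P) (hne : P ≠ ⊥) : ∃ x ∈ P, x ≠ 1 ∧ σ x = x := by
  classical
  haveI : Fact (Nat.Prime 2) := ⟨Nat.prime_two⟩
  haveI : Fintype P := Fintype.ofFinite P
  let π : Equiv.Perm P :=
    { toFun := fun x => ⟨σ x, hinv x x.2⟩
      invFun := fun x => ⟨σ x, hinv x x.2⟩
      left_inv := fun x => Subtype.ext (hσ x)
      right_inv := fun x => Subtype.ext (hσ x) }
  have hπ : π ^ 2 ^ 1 = 1 := Equiv.ext fun x => by
    rw [pow_one, pow_two]; exact Subtype.ext (hσ x)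
  have h2 : 2 ∣ Fintype.card P := by
    obtain ⟨k, hk⟩ := IsPGroup.iff_card.mp hP
    rw [← Nat.card_eq_fintype_card, hk]
    refine dvd_pow_self 2 fun hk0 => hne ?_
    rw [hk0, pow_zero] at hk
    exact Subgroup.eq_bot_of_card_eq P hk
  obtain ⟨b, hb, hb1⟩ := Equiv.Perm.exists_fixed_point_of_prime' h2 hπ (a := 1) (Subtype.ext (map_one σ))
  exact ⟨b, b.2, fun h => hb1 (Subtype.ext h), congrArg Subtype.val hb⟩

/-- An automorphism whose square fixes each Sylow subgroup above an invariant 2-subgroup fixes one of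
them. -/
theorem exists_fixed_sylow [Finite A] (τ : MulAut A) {P : Subgroup A} (hP : IsPGroup 2 P)
    (hinv : ∀ x ∈ P, τ x ∈ P) (h2 : ∀ S : Sylow 2 A, P ≤ S → τ • τ • S = S) :
    ∃ S : Sylow 2 A, P ≤ S ∧ ∀ x ∈ (S : Subgroup A), τ x ∈ (S : Subgroup A) := by
  classical
  haveI : Fact (Nat.Prime 2) := ⟨Nat.prime_two⟩
  haveI : Fintype {S : Sylow 2 A // P ≤ (S : Subgroup A)} := Fintype.ofFinite _
  have hmem : ∀ S : Sylow 2 A, P ≤ (S : Subgroup A) → P ≤ ((τ • S : Sylow 2 A) : Subgroup A) := by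
    intro S hS x hx
    have hx' : τ⁻¹ x ∈ P := by
      have hPτ : P.map τ.toMonoidHom = P := by
        refine Subgroup.eq_of_le_of_card_ge ?_ ?_
        · rintro _ ⟨y, hy, rfl⟩; exact hinv y hy
        · rw [Subgroup.card_map_of_injective τ.injective]
      rw [← hPτ] at hx
      obtain ⟨y, hy, rfl⟩ := hx
      show τ.symm (τ y) ∈ P
      rwa [MulEquiv.symm_apply_apply]
    show x ∈ τ • (S : Subgroup A)
    rw [Subgroup.mem_pointwise_smul_iff_inv_smul_mem]
    exact hS hx'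
  let π : Equiv.Perm {S : Sylow 2 A // P ≤ (S : Subgroup A)} :=
    { toFun := fun S => ⟨τ • S.1, hmem _ S.2⟩
      invFun := fun S => ⟨τ • S.1, hmem _ S.2⟩
      left_inv := fun S => Subtype.ext (h2 _ S.2)
      right_inv := fun S => Subtype.ext (h2 _ S.2) }
  have hπ : π ^ 2 ^ 1 = 1 := Equiv.ext fun S => by
    rw [pow_one, pow_two]; exact Subtype.ext (h2 _ S.2)
  have hodd : ¬ 2 ∣ Fintype.card {S : Sylow 2 A // P ≤ (S : Subgroup A)} := by
    rw [← Nat.card_eq_fintype_card]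
    have h1 := hP.card_modEq_card_fixedPoints (Sylow 2 A)
    have e : Nat.card {S : Sylow 2 A // P ≤ (S : Subgroup A)} =
        Nat.card (fixedPoints P (Sylow 2 A)) :=
      Nat.card_congr (Equiv.subtypeEquivRight fun S => (hP.sylow_mem_fixedPoints_iff).symm)
    rw [e, Nat.dvd_iff_mod_eq_zero]
    have h3 := not_dvd_card_sylow 2 A
    rw [Nat.dvd_iff_mod_eq_zero] at h3
    unfold Nat.ModEq at h1
    omega
  obtain ⟨S, hS⟩ := Equiv.Perm.exists_fixed_point_of_prime hodd hπ
  refine ⟨S.1, S.2, fun x hx => ?_⟩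
  have e : τ • S.1 = S.1 := congrArg Subtype.val hS
  rw [← e]
  exact Subgroup.smul_mem_pointwise_smul _ τ _ hx

/-- The restriction of an automorphism to an invariant subgroup, when it is involutive. -/
def restrictAut {σ : MulAut A} (hσ : ∀ a, σ (σ a) = a) (T : Subgroup A)
    (hinv : ∀ x ∈ T, σ x ∈ T) : MulAut T where
  toFun x := ⟨σ x, hinv x x.2⟩
  invFun x := ⟨σ x, hinv x x.2⟩
  left_inv x := Subtype.ext (hσ x)
  right_inv x := Subtype.ext (hσ x)
  map_mul' x y := Subtype.ext (map_mul σ (x : A) y)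

@[simp] theorem coe_restrictAut {σ : MulAut A} (hσ : ∀ a, σ (σ a) = a) (T : Subgroup A)
    (hinv : ∀ x ∈ T, σ x ∈ T) (x : T) : (restrictAut hσ T hinv x : A) = σ x := rfl

namespace FixHyp

variable {σ : MulAut A} {f : A} (H : FixHyp σ f)
include H

theorem exists_invariant_sylow [Finite A] {P : Subgroup A} (hP : IsPGroup 2 P)
    (hinv : ∀ x ∈ P, σ x ∈ P) :
    ∃ S : Sylow 2 A, P ≤ S ∧ ∀ x ∈ (S : Subgroup A), σ x ∈ (S : Subgroup A) := by
  refine exists_fixed_sylow σ hP hinv fun S _ => ?_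
  rw [smul_smul]
  have : σ * σ = 1 := MulEquiv.ext fun a => H.sq a
  rw [this, one_smul]

theorem exists_invariant_sylow_f [Finite A] :
    ∃ S : Sylow 2 A, f ∈ (S : Subgroup A) ∧ ∀ x ∈ (S : Subgroup A), σ x ∈ (S : Subgroup A) := by
  haveI : Fact (Nat.Prime 2) := ⟨Nat.prime_two⟩
  have hP : IsPGroup 2 (Subgroup.zpowers f) :=
    IsPGroup.of_card_dvd_pow (n := 2) (by rw [Nat.card_zpowers, H.f_ord]; norm_num)
  obtain ⟨S, hS, hSi⟩ := H.exists_invariant_sylow hP (fun x hx => by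
    obtain ⟨k, rfl⟩ := Subgroup.mem_zpowers_iff.mp hx
    rw [map_zpow, H.f_fix]
    exact Subgroup.zpow_mem_zpowers f k)
  exact ⟨S, hS (Subgroup.mem_zpowers f), hSi⟩

end FixHyp

end CfsgLib.CyclicFourFix23
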