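import Cfsg.Agent.CyclicFourFix23.Tools
import Cfsg.Agent.TwoGroup.NormalRankOne
import Cfsg.Agent.TwoGroup.Subgroups

/-!
A 2-group with such an automorphism and without invariant normal four-groups is semidihedral, with `f`
outside the cyclic part, or has a single involution.
-/

set_option autoImplicit false
set_option linter.style.haveILetI false

open scoped commutatorElement

namespace CfsgLib.CyclicFourFix23

open CfsgLib.TwoGroup

variable {P : Type*} [Group P] [Finite P]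

/-- A maximal invariant normal abelian subgroup is self-centralizing. -/
theorem exists_selfCentralizing_invariant (hP : IsPGroup 2 P) (s : MulAut P) (hs : ∀ a, s (s a) = a) :
    ∃ C : Subgroup P, C.Normal ∧ IsMulCommutative C ∧ (∀ x ∈ C, s x ∈ C) ∧
      Subgroup.centralizer (C : Set P) = C := by
  classical
  haveI : Fact (Nat.Prime 2) := ⟨Nat.prime_two⟩
  obtain ⟨C, ⟨hCn, hCc, hCs⟩, hmax⟩ := (Set.toFinite {C : Subgroup P | C.Normal ∧ IsMulCommutative C ∧
    ∀ x ∈ C, s x ∈ C}).exists_maximal ⟨⊥, inferInstance,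
      IsMulCommutative.of_comm fun _ _ => Subsingleton.elim _ _,
      fun x hx => by rw [Subgroup.mem_bot] at hx; rw [hx, map_one]; exact Subgroup.one_mem _⟩
  refine ⟨C, hCn, hCc, hCs, ?_⟩
  have hCC : C ≤ Subgroup.centralizer (C : Set P) := fun x hx =>
    Subgroup.mem_centralizer_iff.mpr fun y hy =>
      congrArg Subtype.val (hCc.is_comm.comm ⟨y, hy⟩ ⟨x, hx⟩)
  by_contra hne
  set D := Subgroup.centralizer (C : Set P) with hD
  haveI := hCn
  haveI hDn : D.Normal := hD ▸ inferInstance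
  let π := QuotientGroup.mk' C
  have hDb : D.map π ≠ ⊥ := by
    rw [Ne, Subgroup.map_eq_bot_iff, QuotientGroup.ker_mk']
    exact fun h => hne (le_antisymm h hCC)
  haveI : (D.map π).Normal := hDn.map π (QuotientGroup.mk'_surjective C)
  set K := (Subgroup.center (P ⧸ C)).comap π ⊓ D with hK
  have hCK : C ≤ K := fun x hx => ⟨by
    show π x ∈ Subgroup.center (P ⧸ C)
    rw [show π x = 1 from (QuotientGroup.eq_one_iff x).mpr hx]
    exact Subgroup.one_mem _, hCC hx⟩
  have hKne : C ≠ K := by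
    intro h
    apply PGroup.inf_center_ne_bot (hP.to_quotient C) (D.map π) hDb
    rw [eq_bot_iff]
    rintro y ⟨⟨x, hxD, rfl⟩, hyc⟩
    rw [Subgroup.mem_bot]
    exact (QuotientGroup.eq_one_iff x).mpr (h ▸ (⟨hyc, hxD⟩ : x ∈ K))
  have hsK : ∀ x ∈ K, s x ∈ K := by
    intro x hxK'
    rw [hK, Subgroup.mem_inf] at hxK' ⊢
    obtain ⟨hx, hxD⟩ := hxK'
    refine ⟨?_, ?_⟩
    · rw [Subgroup.mem_comap, Subgroup.mem_center_iff] at hx ⊢
      intro y
      obtain ⟨w, rfl⟩ := QuotientGroup.mk'_surjective C y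
      have := hx (π (s w))
      rw [← map_mul, ← map_mul] at this ⊢
      have h1 := hCs _ (QuotientGroup.eq.mp this)
      refine QuotientGroup.eq.mpr ?_
      simpa [hs] using h1
    · rw [hD, Subgroup.mem_centralizer_iff] at hxD ⊢
      intro c hc
      have := congrArg s (hxD _ (hCs c hc))
      rwa [map_mul, map_mul, hs] at this
  obtain ⟨x, hxK, hxC, hx⟩ := exists_fixed_coset hs (hP.to_subgroup K) (lt_of_le_of_ne hCK hKne) hCs hsK
  rw [hK, Subgroup.mem_inf] at hxK
  obtain ⟨hxc, hxD⟩ := hxK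
  rw [hD, Subgroup.mem_centralizer_iff] at hxD
  set C' := C ⊔ Subgroup.zpowers x with hC'
  have hform : ∀ y ∈ C', ∃ c ∈ C, ∃ i : ℤ, y = c * x ^ i := by
    intro y hy
    obtain ⟨c, hc, w, hw, rfl⟩ := Subgroup.mem_sup_of_normal_left.mp hy
    obtain ⟨i, rfl⟩ := Subgroup.mem_zpowers_iff.mp hw
    exact ⟨c, hc, i, rfl⟩
  have hxC' : x ∈ C' := Subgroup.mem_sup_right (Subgroup.mem_zpowers x)
  have hle : C ≤ C' := le_sup_left
  refine hxC (hmax (⟨⟨fun y hy g => ?_⟩, IsMulCommutative.of_comm fun a b => ?_, fun y hy => ?_⟩ :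
    C'.Normal ∧ IsMulCommutative C' ∧ ∀ y ∈ C', s y ∈ C') hle hxC')
  · obtain ⟨c, hc, i, rfl⟩ := hform y hy
    have hgx : g * x * g⁻¹ ∈ C' := by
      rw [Subgroup.mem_comap, Subgroup.mem_center_iff] at hxc
      have h := hxc (π g)
      rw [← map_mul, ← map_mul] at h
      have h1 := hle (hCn.conj_mem _ (QuotientGroup.eq.mp h) g)
      have hx' : x * (g * ((g * x)⁻¹ * (x * g)) * g⁻¹)⁻¹ = g * x * g⁻¹ := by group
      rw [← hx']
      exact C'.mul_mem hxC' (C'.inv_mem h1)
    rw [← conj_mul, ← conj_zpow]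
    exact C'.mul_mem (hle (hCn.conj_mem c hc g)) (C'.zpow_mem hgx i)
  · obtain ⟨c, hc, i, hci⟩ := hform a a.2
    obtain ⟨d, hd, j, hdj⟩ := hform b b.2
    apply Subtype.ext
    show (a : P) * b = b * a
    rw [hci, hdj]
    have e1 : Commute c x := hxD c hc
    have e2 : Commute d x := hxD d hd
    have e3 : Commute c d := congrArg Subtype.val (hCc.is_comm.comm ⟨c, hc⟩ ⟨d, hd⟩)
    exact ((e3.mul_right (e1.zpow_right j)).mul_left
      ((e2.zpow_right i).symm.mul_right ((Commute.refl x).zpow_zpow i j))).eq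
  · obtain ⟨c, hc, i, rfl⟩ := hform y hy
    rw [map_mul, map_zpow]
    refine C'.mul_mem (hle (hCs c hc)) (C'.zpow_mem ?_ i)
    rw [← mul_inv_cancel_left x (s x)]
    exact C'.mul_mem hxC' (hle hx)

theorem semidihedral_of_no_normal_pair (hP : IsPGroup 2 P) {s : MulAut P} {f : P} (H : FixHyp s f)
    (hno : ∀ C : Subgroup P, C.Normal → IsMulCommutative C → (∀ x ∈ C, s x ∈ C) →
      AtMostOneInvolution C)
    (hpair : ¬ AtMostOneInvolution P) :
    ∃ n, 3 ≤ n ∧ ∃ (F : Frame P (2 ^ n) (-1 + half n) 0), ∃ c, f = F.e c * F.y ∧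
      half n * c = half n := by
  classical
  haveI : Fact (Nat.Prime 2) := ⟨Nat.prime_two⟩
  obtain ⟨C, hCn, hCc, hCs, hCC⟩ := exists_selfCentralizing_invariant hP s H.sq
  haveI : IsCyclic C := isCyclic_of_comm_atMostOneInvolution (hP.to_subgroup C)
    (fun a b => hCc.is_comm.comm a b) (hno C hCn hCc hCs)
  obtain ⟨u, rfl⟩ := (Subgroup.isCyclic_iff_exists_zpowers_eq_top C).mp inferInstance
  obtain ⟨n, hu⟩ := IsPGroup.iff_orderOf.mp hP u
  have hne : Subgroup.zpowers u ≠ ⊤ := fun h => hpair fun a b ha hb => by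
    have h1 := hno _ hCn hCc hCs ⟨a, h ▸ Subgroup.mem_top a⟩ ⟨b, h ▸ Subgroup.mem_top b⟩
      (by rw [← Subgroup.orderOf_coe]; exact ha) (by rw [← Subgroup.orderOf_coe]; exact hb)
    exact congrArg Subtype.val h1
  -- no element induces `1 + 2 ^ (n - 1)`
  have hmod : 3 ≤ n → ∀ g : P, g * u * g⁻¹ ≠ u ^ (1 + 2 ^ (n - 1)) := by
    intro hn3 g hg
    obtain ⟨hel, hcard, -, hMn⟩ := omega_of_modular_action hn3 hu hCn hCC hg
    set M := Subgroup.centralizer ({u ^ 2} : Set P) with hM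
    set Ω := Cfsg.omegaOne 2 M with hΩ
    have hsM : ∀ x ∈ M, s x ∈ M := by
      intro x hx
      obtain ⟨a, ha⟩ := Subgroup.mem_zpowers_iff.mp (hCs u (Subgroup.mem_zpowers u))
      have h1 : u = s u ^ a := by
        conv_lhs => rw [← H.sq u, ← ha, map_zpow]
      have hc : Commute (s x) (s (u ^ 2)) := by
        rw [hM, Subgroup.mem_centralizer_singleton_iff] at hx
        exact (show Commute x (u ^ 2) from hx).map s
      rw [hM, Subgroup.mem_centralizer_singleton_iff]
      have h2 : u ^ 2 = s (u ^ 2) ^ a := by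
        rw [map_pow, ← zpow_natCast (s u), ← zpow_mul, mul_comm, zpow_mul, ← h1, zpow_natCast]
      rw [h2]
      exact (hc.zpow_right a).eq
    have hgenM : Ω ≤ M := (Subgroup.closure_le _).mpr fun x hx => hx.1
    have hΩiff : ∀ x, x ∈ Ω ↔ x ∈ M ∧ x ^ 2 = 1 := fun x =>
      ⟨fun hx => ⟨hgenM hx, hel.2 x hx⟩, fun hx => Subgroup.subset_closure hx⟩
    have hΩs : ∀ x ∈ Ω, s x ∈ Ω := fun x hx => by
      rw [hΩiff] at hx ⊢
      exact ⟨hsM x hx.1, by rw [← map_pow, hx.2, map_one]⟩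
    have hΩn : Ω.Normal := ⟨fun x hx y => by
      rw [hΩiff] at hx ⊢
      exact ⟨hMn.conj_mem x hx.1 y, by rw [conj_pow, hx.2, mul_one, mul_inv_cancel]⟩⟩
    have h1 := hno Ω hΩn hel.1 hΩs
    haveI : IsCyclic Ω := isCyclic_of_comm_atMostOneInvolution (hP.to_subgroup Ω)
      (fun a b => hel.1.is_comm.comm a b) h1
    obtain ⟨v, hv⟩ := IsCyclic.exists_generator (α := Ω)
    have hcard2 : orderOf v ∣ 2 :=
      orderOf_dvd_of_pow_eq_one (Subtype.ext (by rw [SubgroupClass.coe_pow]; exact hel.2 v v.2))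
    rw [orderOf_eq_card_of_forall_mem_zpowers hv, hcard] at hcard2
    omega
  obtain ⟨hn2, hcard, -⟩ := isMaxClassType_of_selfCentralizing hP hu hCn hCC hne hmod
  have hnc : ¬ IsMulCommutative P := fun hc => hne (by
    rw [← hCC, Subgroup.centralizer_eq_top_iff_subset]
    intro x _
    exact Subgroup.mem_center_iff.mpr fun g => hc.is_comm.comm g x)
  obtain ⟨-, r, t, F, hrot, hcases⟩ := classify_cyclic_index_two u hu hcard hnc
  have hrt : (r = -1 ∨ (3 ≤ n ∧ r = -1 + half n)) ∧ t = 0 := by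
    rcases hcases with ⟨h1, h2⟩ | ⟨h1, h2⟩ | ⟨h3, h1, h2⟩ | ⟨h3, h1, h2⟩
    · exact ⟨Or.inl h1, h2⟩
    · exfalso
      refine hpair fun a b ha hb => ?_
      have key : ∀ x : P, orderOf x = 2 → x = F.e (half n) := by
        intro x hx
        have hx2 : x * x = 1 := by rw [← pow_two, ← hx, pow_orderOf_eq_one]
        obtain ⟨i, rfl | rfl⟩ := F.cover x
        · rw [F.e_mul_e, F.e_eq_one] at hx2
          rcases (add_self_eq_zero_iff' (by omega)).mp hx2 with h | h
          · rw [h, F.map_zero, orderOf_one] at hx; omega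
          · rw [h]
        · exfalso
          rw [F.ey_mul_ey, F.e_eq_one, h1, h2] at hx2
          exact half_ne_zero (n := n) (by omega) (by linear_combination hx2)
      rw [key a ha, key b hb]
    · exact ⟨Or.inr ⟨h3, h1⟩, h2⟩
    · exfalso
      obtain ⟨j, hj⟩ := F.mem_rot.mp (hrot ▸ Subgroup.mem_zpowers u)
      refine hmod h3 F.y ?_
      rw [hj, F.conj_y, mul_inv_cancel_right, ← F.map_nsmul]
      congr 1
      rw [Nat.cast_add, natCast_half, Nat.cast_one]
      linear_combination j * h1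
  obtain ⟨hr, rfl⟩ := hrt
  have hrotS : ∀ x ∈ F.rot, s x ∈ F.rot := fun x hx => hrot ▸ hCs x (hrot ▸ hx)
  obtain ⟨c, hc | hc⟩ := F.cover f
  swap
  · -- `f` outside the cyclic part
    have h4 : f * f ≠ 1 := H.z_ne_one
    rw [hc, F.ey_mul_ey, Ne, F.e_eq_one] at h4
    rcases hr with h | ⟨h3, h⟩
    · exact absurd (by rw [h]; ring) h4
    · subst h
      refine ⟨n, h3, F, c, hc, ?_⟩
      rcases half_mul_cases (n := n) (by omega) c with h' | h'
      · exact absurd (by linear_combination h') h4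
      · exact h'
  exfalso
  have hc2 : c + c ≠ 0 := fun h => H.z_ne_one (by rw [hc, F.e_mul_e, h, F.map_zero])
  have hc4 : c + c + (c + c) = 0 := by
    have := H.z_sq
    rwa [hc, F.e_mul_e, F.e_mul_e, F.e_eq_one] at this
  have hfix4 : ∀ i, s (F.e i) = F.e i → 4 * i = 0 := by
    intro i hi
    rcases H.fixed_mem (T := ⊤) (hP.to_subgroup _) (Subgroup.mem_top f) (Subgroup.mem_top (F.e i)) hi with
      h | h | h | h
    · rw [F.e_eq_one] at h; rw [h, mul_zero]
    · rw [hc, F.e_inj] at h; rw [h]; linear_combination hc4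
    · rw [hc, F.e_mul_e, F.e_inj] at h; rw [h]; linear_combination 2 * hc4
    · rw [hc, F.e_mul_e, F.e_mul_e, F.e_inj] at h; rw [h]; linear_combination 3 * hc4
  have hfixy : ∀ i, s (F.e i * F.y) ≠ F.e i * F.y := by
    intro i hi
    have hmem : F.e i * F.y ∈ F.rot := by
      have hfr : f ∈ F.rot := hc ▸ F.e_mem_rot c
      rcases H.fixed_mem (T := ⊤) (hP.to_subgroup _) (Subgroup.mem_top f)
        (Subgroup.mem_top (F.e i * F.y)) hi with h | h | h | h <;> rw [h]
      exacts [F.rot.one_mem, hfr, F.rot.mul_mem hfr hfr, F.rot.mul_mem hfr (F.rot.mul_mem hfr hfr)]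
    exact F.ey_notMem_rot i hmem
  obtain ⟨a, ha⟩ := F.mem_rot.mp (hrotS _ (F.e_mem_rot 1))
  have hse : ∀ i : ZMod (2 ^ n), s (F.e i) = F.e (i * a) := by
    intro i
    obtain ⟨k, rfl⟩ := ZMod.intCast_surjective i
    rw [F.map_zsmul k a, ← ha, ← map_zpow, ← F.map_zsmul, mul_one]
  have haa : a * a = 1 := by
    have := H.sq (F.e 1)
    rwa [hse, hse, one_mul, F.e_inj] at this
  obtain ⟨b, hb⟩ : ∃ b, s F.y = F.e b * F.y := by
    obtain ⟨b, hb | hb⟩ := F.cover (s F.y)
    · exfalso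
      have := hrotS _ (hb ▸ F.e_mem_rot b : s F.y ∈ F.rot)
      rw [H.sq] at this
      exact F.y_notMem_rot this
    · exact ⟨b, hb⟩
  have hbb : b * a + b = 0 := by
    have := H.sq F.y
    rw [hb, map_mul, hse, hb, F.e_mul_ey] at this
    nth_rw 2 [F.y_eq] at this
    exact F.ey_inj.mp this
  have hsy : ∀ i, s (F.e i * F.y) = F.e (i * a + b) * F.y := fun i => by
    rw [map_mul, hse, hb, F.e_mul_ey]
  have hca : c * a = c := by
    have := H.f_fix
    rwa [hc, hse, F.e_inj] at this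
  rcases Nat.eq_or_lt_of_le hn2 with h | h3
  · subst h
    have key : ∀ a c b : ZMod (2 ^ 2), c + c ≠ 0 → c * a = c → b * a + b = 0 →
        a = 1 ∧ (b = 0 ∨ b = 2) := by decide
    obtain ⟨rfl, rfl | rfl⟩ := key a c b hc2 hca hbb
    · exact hfixy 0 (by rw [hsy]; simp)
    -- the four-group `{1, e 2, y, e 2 * y}`
    have hr' : r = -1 := hr.resolve_right fun h => absurd h.1 (by omega)
    subst hr'
    have h22 : ∀ i : ZMod (2 ^ 2), i = 0 ∨ i = 2 → -i = i := by decide
    have hadd : ∀ i j : ZMod (2 ^ 2), (i = 0 ∨ i = 2) → (j = 0 ∨ j = 2) → (i + j = 0 ∨ i + j = 2) := by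
      decide
    let E : Subgroup P :=
      { carrier := {g | ∃ i : ZMod (2 ^ 2), (i = 0 ∨ i = 2) ∧ (g = F.e i ∨ g = F.e i * F.y)}
        one_mem' := ⟨0, Or.inl rfl, Or.inl F.map_zero.symm⟩
        mul_mem' := by
          rintro g g' ⟨i, hi, rfl | rfl⟩ ⟨j, hj, rfl | rfl⟩
          · exact ⟨i + j, hadd i j hi hj, Or.inl (F.e_mul_e i j)⟩
          · exact ⟨i + j, hadd i j hi hj, Or.inr (F.e_mul_ey i j)⟩
          · exact ⟨i + j, hadd i j hi hj, Or.inr (by rw [F.ey_mul_e, neg_one_mul, h22 j hj])⟩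
          · exact ⟨i + j, hadd i j hi hj, Or.inl (by rw [F.ey_mul_ey, neg_one_mul, h22 j hj, add_zero])⟩
        inv_mem' := by
          rintro g ⟨i, hi, rfl | rfl⟩
          · exact ⟨i, hi, Or.inl (by rw [← F.map_neg, h22 i hi])⟩
          · exact ⟨i, hi, Or.inr (inv_eq_of_mul_eq_one_right (by
              rw [F.ey_mul_ey, F.e_eq_one]; ring))⟩ }
    have hEc : IsMulCommutative E := IsMulCommutative.of_comm fun g g' => by
      obtain ⟨i, hi, hg⟩ := g.2
      obtain ⟨j, hj, hg'⟩ := g'.2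
      apply Subtype.ext
      show (g : P) * g' = g' * g
      rcases hg with hg | hg <;> rcases hg' with hg' | hg' <;> rw [hg, hg']
      · rw [F.e_mul_e, F.e_mul_e, add_comm]
      · rw [F.e_mul_ey, F.ey_mul_e, neg_one_mul, h22 i hi, add_comm]
      · rw [F.e_mul_ey, F.ey_mul_e, neg_one_mul, h22 j hj, add_comm]
      · rw [F.ey_mul_ey, F.ey_mul_ey, neg_one_mul, neg_one_mul, h22 i hi, h22 j hj, add_comm j i]
    have hd1 : ∀ i j : ZMod (2 ^ 2), (i = 0 ∨ i = 2) →
        (i + (1 - -1) * j = 0 ∨ i + (1 - -1) * j = 2) ∧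
        (-1 * i + (1 - -1) * j = 0 ∨ -1 * i + (1 - -1) * j = 2) := by decide
    have hEn : E.Normal := ⟨fun g hg y => by
      obtain ⟨j, rfl | rfl⟩ := F.cover y <;> obtain ⟨i, hi, rfl | rfl⟩ := hg
      · exact ⟨i, hi, Or.inl (by rw [F.e_mul_e, ← F.map_sub, add_sub_cancel_left])⟩
      · exact ⟨_, (hd1 i j hi).1, Or.inr (F.conj_e_ey j i)⟩
      · exact ⟨i, hi, Or.inl (by rw [F.conj_e, neg_one_mul, h22 i hi])⟩
      · exact ⟨_, (hd1 i j hi).2, Or.inr (F.conj_ey_ey j i)⟩⟩
    have hEs : ∀ g ∈ E, s g ∈ E := by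
      rintro g ⟨i, hi, rfl | rfl⟩
      · exact ⟨i, hi, Or.inl (by rw [hse, mul_one])⟩
      · exact ⟨i + 2, hadd i 2 hi (Or.inr rfl), Or.inr (by rw [hsy, mul_one])⟩
    have h1 := hno E hEn hEc hEs ⟨F.e 2, 2, Or.inr rfl, Or.inl rfl⟩
      ⟨F.e 0 * F.y, 0, Or.inl rfl, Or.inr rfl⟩
      (by
        rw [← Subgroup.orderOf_coe]
        exact orderOf_eq_prime (by rw [pow_two, F.e_mul_e, F.e_eq_one]; decide)
          (fun h => absurd (F.e_eq_one.mp h) (by decide)))
      (by
        rw [← Subgroup.orderOf_coe]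
        exact orderOf_eq_prime (by rw [pow_two, F.ey_mul_ey, F.e_eq_one]; ring)
          (fun h => F.e_ne_ey 0 0 (F.map_zero.trans h.symm)))
    exact F.e_ne_ey 2 0 (congrArg Subtype.val h1)
  · have h3' : 3 ≤ n := h3
    have hhc : half n * c = 0 := by
      have e : half n = 4 * 2 ^ (n - 3) := by
        rw [half, show n - 1 = n - 3 + 2 by omega, pow_add]; ring
      rw [e]
      linear_combination (2 : ZMod (2 ^ n)) ^ (n - 3) * hc4
    have hfour : (4 : ZMod (2 ^ n)) ≠ 0 := by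
      have := two_pow_ne_zero (n := n) (k := 2) (by omega)
      norm_num at this
      exact this
    rcases sq_eq_one hn2 haa with rfl | rfl | rfl | rfl
    · exact hfour (by simpa using hfix4 1 (by rw [hse, one_mul]))
    · exact hc2 (by linear_combination -hca)
    · have h8 := hfix4 2 (by
        rw [hse]; congr 1
        linear_combination two_mul_half (n := n) (by omega))
      have hn3 : n = 3 := by
        by_contra hne3
        have := two_pow_ne_zero (n := n) (k := 3) (by omega)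
        norm_num at h8 this
        exact this h8
      subst hn3
      have key : ∀ b : ZMod (2 ^ 3), b * (1 + half 3) + b = 0 → ∃ i, i * (1 + half 3) + b = i := by
        unfold half; decide
      obtain ⟨i, hi⟩ := key b hbb
      exact hfixy i (by rw [hsy, hi])
    · exact hc2 (by linear_combination hhc - hca)

end CfsgLib.CyclicFourFix23
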