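import Cfsg.Agent.CyclicFourFix23.FourCentral
import Cfsg.Agent.CyclicFourFix23.MaxClass
import Cfsg.Agent.PGroup.Normal

/-!
A perfect group with trivial core and such an automorphism has no two commuting involutions.
-/

set_option autoImplicit false
set_option linter.style.haveILetI false

open MulAction Pointwise

namespace CfsgLib.CyclicFourFix23

open CfsgLib.TwoGroup

universe u

variable {A : Type u} [Group A] [Finite A] {σ : MulAut A} {f : A}

omit [Finite A] in
theorem FixHyp.restrict (H : FixHyp σ f) {T : Subgroup A} (hf : f ∈ T) (hinv : ∀ x ∈ T, σ x ∈ T) :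
    FixHyp (restrictAut H.sq T hinv) (⟨f, hf⟩ : T) where
  sq := fun a => Subtype.ext (H.sq a)
  fix2 := fun P hP hfix => by
    have e := Subgroup.equivMapOfInjective P T.subtype T.subtype_injective
    obtain ⟨h1, h2⟩ := H.fix2 (P.map T.subtype) (hP.map _) (by
      rintro _ ⟨x, hx, rfl⟩
      exact congrArg Subtype.val (hfix x hx))
    haveI := h1
    exact ⟨isCyclic_of_surjective e.symm e.symm.surjective, by rw [Nat.card_congr e.toEquiv]; exact h2⟩
  f_fix := Subtype.ext H.f_fix
  f_ord := by rw [← Subgroup.orderOf_coe]; exact H.f_ord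

/-- Invariant normal abelian subgroups of an invariant Sylow subgroup through `f` have at most one
involution. -/
theorem FixHyp.no_normal_pair (hperf : commutator A = ⊤) (hO : Cfsg.pPrimeCore 2 A = ⊥)
    (H : FixHyp σ f) (S : Sylow 2 A) (hf : f ∈ (S : Subgroup A))
    (hinv : ∀ x ∈ (S : Subgroup A), σ x ∈ (S : Subgroup A)) :
    ∀ C : Subgroup (S : Subgroup A), C.Normal → IsMulCommutative C →
      (∀ x ∈ C, restrictAut H.sq (S : Subgroup A) hinv x ∈ C) → AtMostOneInvolution C := by
  classical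
  haveI : Fact (Nat.Prime 2) := ⟨Nat.prime_two⟩
  intro C hCn hCc hCs
  intro a b ha hb
  by_contra hab
  haveI := hCn
  have hcomm : ∀ x ∈ C, ∀ y ∈ C, ((x : (S : Subgroup A)) : A) * y = y * x := fun x hx y hy =>
    congrArg (fun t : C => ((t : (S : Subgroup A)) : A)) (hCc.is_comm.comm ⟨x, hx⟩ ⟨y, hy⟩)
  have hval : ∀ x : C, orderOf x = 2 → ((x : (S : Subgroup A)) : A) * x = 1 ∧ ((x : (S : Subgroup A)) : A) ≠ 1 := fun x hx => by
    have h2 : x * x = 1 := by
      have := pow_orderOf_eq_one x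
      rwa [hx, pow_two] at this
    refine ⟨congrArg (fun t : C => ((t : (S : Subgroup A)) : A)) h2, fun h => ?_⟩
    have : x = 1 := Subtype.ext (Subtype.ext h)
    rw [this, orderOf_one] at hx
    omega
  obtain ⟨d, hd1, hdz⟩ : ∃ d : C, orderOf d = 2 ∧ ((d : (S : Subgroup A)) : A) ≠ f * f := by
    by_contra hcon
    push Not at hcon
    exact hab (Subtype.ext (Subtype.ext ((hcon a ha).trans (hcon b hb).symm)))
  obtain ⟨he2, he1⟩ := hval d hd1
  set e := ((d : (S : Subgroup A)) : A) with he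
  have hpair : ∀ x ∈ C, ((x : (S : Subgroup A)) : A) * x = 1 →
      σ x = ((x : (S : Subgroup A)) : A) ∨ σ x = ((x : (S : Subgroup A)) : A) * (f * f) := by
    intro x hx hx2
    have hx' := hcomm x hx _ (hCs x hx)
    rw [coe_restrictAut] at hx'
    have hi : ((x : (S : Subgroup A)) : A)⁻¹ = x := inv_eq_of_mul_eq_one_right hx2
    rcases H.fixed_involution S.isPGroup' hf (Subgroup.mul_mem (S : Subgroup A) x.2 (hinv _ x.2))
      (by rw [map_mul, H.sq, hx']) (by
        calc ((x : (S : Subgroup A)) : A) * σ x * (x * σ x) = ((x : (S : Subgroup A)) : A) * (σ x * x) * σ x := by group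
          _ = ((x : (S : Subgroup A)) : A) * x * (σ x * σ x) := by rw [← hx']; group
          _ = 1 := by rw [hx2, ← map_mul, hx2, map_one, one_mul]) with h | h
    · left; rw [eq_inv_of_mul_eq_one_right h, hi]
    · right; rw [← h, ← mul_assoc, hx2, one_mul]
  have hfix : ∀ x ∈ C, ((x : (S : Subgroup A)) : A) * x = 1 → σ x = ((x : (S : Subgroup A)) : A) →
      ((x : (S : Subgroup A)) : A) = 1 ∨ ((x : (S : Subgroup A)) : A) = f * f :=
    fun x _ hx2 hσ => H.fixed_involution S.isPGroup' hf (x : (S : Subgroup A)).2 hσ hx2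
  have hσe : σ e = e * (f * f) :=
    (hpair _ d.2 he2).resolve_left fun h => (hfix _ d.2 he2 h).elim he1 hdz
  -- `z` is central in `(S : Subgroup A)`
  let W0 : Subgroup (S : Subgroup A) :=
    { carrier := {x | x ∈ C ∧ ((x : (S : Subgroup A)) : A) * x = 1}
      one_mem' := ⟨C.one_mem, one_mul 1⟩
      mul_mem' := fun {x y} hx hy => ⟨C.mul_mem hx.1 hy.1, by
        show ((x : (S : Subgroup A)) : A) * y * (x * y) = 1
        calc ((x : (S : Subgroup A)) : A) * y * (x * y) = ((x : (S : Subgroup A)) : A) * ((y : (S : Subgroup A)) * x) * y := by group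
          _ = ((x : (S : Subgroup A)) : A) * x * ((y : (S : Subgroup A)) * y) := by rw [hcomm y hy.1 x hx.1]; group
          _ = 1 := by rw [hx.2, hy.2, mul_one]⟩
      inv_mem' := fun {x} hx => ⟨C.inv_mem hx.1, by
        show (((x : (S : Subgroup A)) : A))⁻¹ * ((x : (S : Subgroup A)) : A)⁻¹ = 1
        rw [← mul_inv_rev, hx.2, inv_one]⟩ }
  haveI : W0.Normal := ⟨fun x hx g => ⟨hCn.conj_mem x hx.1 g, by
    show ((g : (S : Subgroup A)) : A) * x * (g : A)⁻¹ * ((g : A) * x * (g : A)⁻¹) = 1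
    rw [conj_mul, hx.2, mul_one, mul_inv_cancel]⟩⟩
  have hW0 : W0 ≠ ⊥ := fun h => he1 (by
    have : (d : (S : Subgroup A)) ∈ W0 := ⟨d.2, he2⟩
    rw [h, Subgroup.mem_bot] at this
    rw [he, this]; rfl)
  obtain ⟨w, hw, hw1⟩ := (Subgroup.bot_or_exists_ne_one _).resolve_left
    (PGroup.inf_center_ne_bot S.isPGroup' W0 hW0)
  rw [Subgroup.mem_inf] at hw
  obtain ⟨⟨hwC, hw2⟩, hwc⟩ := hw
  have hwcomm : ∀ x ∈ (S : Subgroup A), x * (w : A) = w * x := fun x hx =>
    congrArg Subtype.val (Subgroup.mem_center_iff.mp hwc ⟨x, hx⟩)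
  have hzc : ∀ x ∈ (S : Subgroup A), x * (f * f) = f * f * x := by
    intro x hx
    rcases hpair w hwC hw2 with h | h
    · rcases hfix w hwC hw2 h with h' | h'
      · exact absurd (Subtype.ext h') hw1
      · rw [← h']; exact hwcomm x hx
    · have hσw : x * σ w = σ w * x := by
        have := congrArg σ (hwcomm (σ x) (hinv x hx))
        rwa [map_mul, map_mul, H.sq] at this
      rw [h, ← mul_assoc, hwcomm x hx, mul_assoc, mul_assoc] at hσw
      exact mul_left_cancel hσw
  refine NormalFour.contradiction hperf hO S (σ := σ) (f := f) (e := e)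
    ⟨H, S.isPGroup', hinv, hf, (d : (S : Subgroup A)).2, he2, he1, hdz, hσe, hzc, fun x hx => ?_⟩
  set t : (S : Subgroup A) := ⟨x, hx⟩ * d * ⟨x, hx⟩⁻¹ with htdef
  have ht : t ∈ C := hCn.conj_mem _ d.2 _
  have ht' : (t : A) = x * e * x⁻¹ := rfl
  have ht2 : (t : A) * t = 1 := by rw [ht', conj_mul, he2, mul_one, mul_inv_cancel]
  rw [← ht']
  rcases hpair t ht ht2 with h | h
  · exfalso
    rcases hfix t ht ht2 h with h' | h' <;> rw [ht'] at h'
    · exact he1 (conj_eq_one_iff.mp h')
    · apply hdz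
      calc e = x⁻¹ * (x * e * x⁻¹) * x := by group
        _ = x⁻¹ * (f * f * x) := by rw [h', mul_assoc]
        _ = f * f := by rw [← hzc x hx, inv_mul_cancel_left]
  · have hte : (t : A) * e = e * t := hcomm t ht _ d.2
    have hei : e⁻¹ = e := inv_eq_of_mul_eq_one_right he2
    rcases H.fixed_involution S.isPGroup' hf (Subgroup.mul_mem (S : Subgroup A) t.2 (d : (S : Subgroup A)).2) (by
        rw [map_mul, h, hσe, mul_assoc, ← mul_assoc (f * f) e, ← hzc e (d : (S : Subgroup A)).2, mul_assoc e,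
          H.z_sq, mul_one])
      (by
        calc (t : A) * e * (t * e) = t * (e * t) * e := by group
          _ = t * t * (e * e) := by rw [← hte]; group
          _ = 1 := by rw [ht2, he2, mul_one]) with h' | h'
    · left; rw [eq_inv_of_mul_eq_one_left h', hei]
    · right
      calc (t : A) = t * e * e := by rw [mul_assoc, he2, mul_one]
        _ = e * (f * f) := by rw [h', hzc e (d : (S : Subgroup A)).2]

/-- Transfer: an element of order dividing four all of whose conjugates avoid a subgroup of index two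
containing all involutions of the Sylow subgroup gives a subgroup of index two. -/
theorem exists_index_two_of_no_conj (S : Sylow 2 A) (Q : Subgroup (S : Subgroup A)) (hQ : Q.index = 2)
    {u : A} (hu : u ^ 4 = 1)
    (hex : ∀ (g : A) (h : g * u * g⁻¹ ∈ (S : Subgroup A)), (⟨_, h⟩ : (S : Subgroup A)) ∉ Q)
    (hinvol : ∀ x : (S : Subgroup A), x * x = 1 → x ∈ Q) :
    ∃ H : Subgroup A, H.index = 2 := by
  haveI hdec : DecidablePred (fun x => x ∈ Q) := Classical.decPred _
  let φ : (S : Subgroup A) →* Multiplicative (ZMod 2) :=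
    { toFun := fun x => if x ∈ Q then 1 else Multiplicative.ofAdd 1
      map_one' := by simp
      map_mul' := fun a b => by
        have h := Subgroup.mul_mem_iff_of_index_two hQ (a := a) (b := b)
        by_cases ha : a ∈ Q <;> by_cases hb : b ∈ Q <;> simp [ha, hb, h]
        decide }
  set c : Multiplicative (ZMod 2) := Multiplicative.ofAdd 1 with hc
  have hc2 : c ^ 2 = 1 := by decide
  have key : ∀ y : Multiplicative (ZMod 2), y = 1 ∨ y = Multiplicative.ofAdd 1 := by decide
  haveI : Fact (Nat.Prime 2) := ⟨Nat.prime_two⟩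
  have hV : φ.transfer u = c := by
    letI : Fintype (Quotient (MulAction.orbitRel (Subgroup.zpowers u) (A ⧸ (S : Subgroup A)))) :=
      Fintype.ofFinite _
    rw [MonoidHom.transfer_eq_prod_quotient_orbitRel_zpowers_quot]
    have hterm : ∀ (g₀ : A) (m : ℕ) (hm : g₀⁻¹ * u ^ m * g₀ ∈ (S : Subgroup A)),
        φ ⟨_, hm⟩ = c ^ m := by
      intro g₀ m hm
      have hmod : u ^ m = u ^ (m % 4) := by
        conv_lhs => rw [← Nat.mod_add_div m 4, pow_add, pow_mul, hu, one_pow, mul_one]
      obtain ⟨k, rfl | rfl⟩ := Nat.even_or_odd' m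
      · have h1 : (⟨_, hm⟩ : (S : Subgroup A)) ∈ Q := hinvol _ (Subtype.ext (by
          show g₀⁻¹ * u ^ (2 * k) * g₀ * (g₀⁻¹ * u ^ (2 * k) * g₀) = 1
          calc g₀⁻¹ * u ^ (2 * k) * g₀ * (g₀⁻¹ * u ^ (2 * k) * g₀)
              = g₀⁻¹ * (u ^ (2 * k) * u ^ (2 * k)) * g₀ := by group
            _ = g₀⁻¹ * ((u ^ 4) ^ k) * g₀ := by rw [← pow_add, ← pow_mul]; congr 3; ring
            _ = 1 := by rw [hu, one_pow, mul_one, inv_mul_cancel]))
        refine Eq.trans (if_pos h1) ?_
        rw [pow_mul, hc2, one_pow]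
      · have hcc : c ^ (2 * k + 1) = c := by rw [pow_succ, pow_mul, hc2, one_pow, one_mul]
        rw [hcc]
        refine if_neg fun h1 => ?_
        have h4 : (2 * k + 1) % 4 = 1 ∨ (2 * k + 1) % 4 = 3 := by omega
        rcases h4 with h4 | h4 <;> rw [h4] at hmod
        · rw [pow_one] at hmod
          have e : g₀⁻¹ * u ^ (2 * k + 1) * g₀ = g₀⁻¹ * u * g₀⁻¹⁻¹ := by rw [hmod, inv_inv]
          refine hex g₀⁻¹ (e ▸ hm) ?_
          convert h1 using 1
          exact Subtype.ext e.symm
        · have h3 : u ^ 3 = u⁻¹ := eq_inv_of_mul_eq_one_left (by rw [← pow_succ, hu])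
          have e : (g₀⁻¹ * u ^ (2 * k + 1) * g₀)⁻¹ = g₀⁻¹ * u * g₀⁻¹⁻¹ := by
            rw [hmod, h3]; group
          refine hex g₀⁻¹ (e ▸ Subgroup.inv_mem _ hm) ?_
          convert Q.inv_mem h1 using 1
          exact Subtype.ext e.symm
    rw [Finset.prod_congr rfl (fun q _ => hterm q.out.out _ _), Finset.prod_pow_eq_pow_sum]
    have hsum := (S : Subgroup A).index_eq_sum_minimalPeriod u
    rw [← hsum]
    have hodd : Odd (S : Subgroup A).index := by
      rw [← Nat.not_even_iff_odd, even_iff_two_dvd]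
      exact S.not_dvd_index
    obtain ⟨k, hk⟩ := hodd
    rw [hk, pow_succ, pow_mul, hc2, one_pow, one_mul]
  refine ⟨φ.transfer.ker, ?_⟩
  rw [Subgroup.index_ker]
  have htop : φ.transfer.range = ⊤ := by
    rw [eq_top_iff]
    intro y _
    rcases key y with rfl | rfl
    · exact one_mem _
    · exact ⟨u, hV⟩
  rw [htop, Subgroup.card_top]
  simp

theorem FixHyp.semidihedral (hperf : commutator A = ⊤) (hO : Cfsg.pPrimeCore 2 A = ⊥)
    (H : FixHyp σ f) (S : Sylow 2 A) (hf : f ∈ (S : Subgroup A))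
    (hinv : ∀ x ∈ (S : Subgroup A), σ x ∈ (S : Subgroup A))
    {a b : A} (ha : orderOf a = 2) (hb : orderOf b = 2) (hab : Commute a b) (hne : a ≠ b) :
    ∃ n, 3 ≤ n ∧ ∃ (F : Frame (S : Subgroup A) (2 ^ n) (-1 + half n) 0),
      ∃ c, (⟨f, hf⟩ : (S : Subgroup A)) = F.e c * F.y ∧ half n * c = half n := by
  haveI : Fact (Nat.Prime 2) := ⟨Nat.prime_two⟩
  refine semidihedral_of_no_normal_pair S.isPGroup' (H.restrict hf hinv)
    (fun C hn hc hs => H.no_normal_pair hperf hO S hf hinv C hn hc hs) fun hamo => hne ?_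
  have ha2 : a * a = 1 := by rw [← pow_two, ← ha, pow_orderOf_eq_one]
  have hb2 : b * b = 1 := by rw [← pow_two, ← hb, pow_orderOf_eq_one]
  have hai : a⁻¹ = a := inv_eq_of_mul_eq_one_right ha2
  have hbi : b⁻¹ = b := inv_eq_of_mul_eq_one_right hb2
  let U : Subgroup A :=
    { carrier := {x | x = 1 ∨ x = a ∨ x = b ∨ x = a * b}
      one_mem' := Or.inl rfl
      mul_mem' := by
        have h1 : b * a = a * b := hab.eq.symm
        have h2 : a * b * a = b := by rw [mul_assoc, h1, ← mul_assoc, ha2, one_mul]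
        have h3 : a * (a * b) = b := by rw [← mul_assoc, ha2, one_mul]
        have h4 : a * b * b = a := by rw [mul_assoc, hb2, mul_one]
        have h5 : b * (a * b) = a := by rw [← mul_assoc, h1, h4]
        have h6 : a * b * (a * b) = 1 := by rw [mul_assoc, h5, ha2]
        intro x y hx hy
        rcases hx with hx | hx | hx | hx <;> rcases hy with hy | hy | hy | hy <;>
          rw [hx, hy] <;> simp [ha2, hb2, h1, h2, h3, h4, h5, h6]
      inv_mem' := by
        rintro x (rfl | rfl | rfl | rfl)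
        · simp
        · exact Or.inr (Or.inl hai)
        · exact Or.inr (Or.inr (Or.inl hbi))
        · exact Or.inr (Or.inr (Or.inr (by rw [mul_inv_rev, hai, hbi, hab.eq]))) }
  have hU : IsPGroup 2 U := fun x => ⟨1, by
    apply Subtype.ext
    rw [SubgroupClass.coe_pow, pow_one, pow_two]
    rcases x.2 with h | h | h | h <;> rw [h]
    · exact one_mul 1
    · exact ha2
    · exact hb2
    · show a * b * (a * b) = 1
      calc a * b * (a * b) = a * (b * a) * b := by group
        _ = a * a * (b * b) := by rw [← hab.eq]; group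
        _ = 1 := by rw [ha2, hb2, mul_one]⟩
  obtain ⟨R, hR⟩ := hU.exists_le_sylow
  obtain ⟨g, hg⟩ := MulAction.exists_smul_eq A R S
  have hmem : ∀ x ∈ (R : Subgroup A), g * x * g⁻¹ ∈ (S : Subgroup A) := fun x hx => by
    rw [← hg]
    exact Subgroup.smul_mem_pointwise_smul _ (MulAut.conj g) _ hx
  have key : ∀ x : A, orderOf x = 2 → orderOf (g * x * g⁻¹) = 2 := fun x hx =>
    ((MulAut.conj g).orderOf_eq x).trans hx
  have h1 := hamo ⟨_, hmem a (hR (Or.inr (Or.inl rfl)))⟩ ⟨_, hmem b (hR (Or.inr (Or.inr (Or.inl rfl))))⟩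
    (by rw [← Subgroup.orderOf_coe]; exact key a ha) (by rw [← Subgroup.orderOf_coe]; exact key b hb)
  exact mul_left_cancel (mul_right_cancel (congrArg Subtype.val h1))

/-- The main statement for trivial core. -/
theorem FixHyp.eq_of_commute (hperf : commutator A = ⊤) (hO : Cfsg.pPrimeCore 2 A = ⊥)
    (H : FixHyp σ f) {a b : A} (ha : orderOf a = 2) (hb : orderOf b = 2) (hab : Commute a b) :
    a = b := by
  classical
  by_contra hne
  haveI : Fact (Nat.Prime 2) := ⟨Nat.prime_two⟩
  obtain ⟨S, hf, hinv⟩ := H.exists_invariant_sylow_f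
  obtain ⟨n, hn, F, c, hc, hcodd⟩ := H.semidihedral hperf hO S hf hinv ha hb hab hne
  have hn1 : 1 ≤ n := by omega
  have hh2 : half n = 2 * 2 ^ (n - 2) := by rw [half, ← pow_succ']; congr 1; omega
  have hhh := half_mul_half hn
  let U : Subgroup (S : Subgroup A) :=
    { carrier := {g | ∃ i, g = F.e (2 * i) ∨ g = F.e (2 * i) * F.y}
      one_mem' := ⟨0, Or.inl (by rw [mul_zero, F.map_zero])⟩
      mul_mem' := by
        rintro g g' ⟨i, rfl | rfl⟩ ⟨j, rfl | rfl⟩
        · exact ⟨i + j, Or.inl (by rw [F.e_mul_e, mul_add])⟩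
        · exact ⟨i + j, Or.inr (by rw [F.e_mul_ey, mul_add])⟩
        · exact ⟨i + (-1 + half n) * j, Or.inr (by rw [F.ey_mul_e]; congr 2; ring)⟩
        · exact ⟨i + (-1 + half n) * j, Or.inl (by rw [F.ey_mul_ey]; congr 1; ring)⟩
      inv_mem' := by
        rintro g ⟨i, rfl | rfl⟩
        · exact ⟨-i, Or.inl (by rw [mul_neg, F.map_neg])⟩
        · refine ⟨i, Or.inr (inv_eq_of_mul_eq_one_right ?_)⟩
          rw [F.ey_mul_ey, F.e_eq_one]
          linear_combination half_mul_even hn1 i }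
  have hUidx : U.index = 2 := by
    have h1 : F.e 1 ∉ U := by
      rintro ⟨i, h | h⟩
      · rw [F.e_inj] at h
        exact half_ne_zero hn1 (show half n = 0 by
          calc half n = half n * 1 := (mul_one _).symm
            _ = 0 := by rw [h, half_mul_even hn1])
      · exact F.e_ne_ey _ _ h
    rw [Subgroup.index_eq_two_iff]
    refine ⟨F.e 1, fun g => ?_⟩
    have key : g * F.e 1 ∈ U ∨ g ∈ U := by
      obtain ⟨i, rfl | rfl⟩ := F.cover g <;> obtain ⟨t, rfl | rfl⟩ := even_or_odd' i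
      · exact Or.inr ⟨t, Or.inl rfl⟩
      · exact Or.inl ⟨t + 1, Or.inl (by rw [F.e_mul_e]; congr 1; ring)⟩
      · exact Or.inr ⟨t, Or.inr rfl⟩
      · refine Or.inl ⟨t + 2 ^ (n - 2), Or.inr ?_⟩
        rw [F.ey_mul_e]; congr 2
        linear_combination hh2
    rcases key with h | h
    · exact Or.inl ⟨h, fun h' => h1 ((U.mul_mem_cancel_left h').mp h)⟩
    · exact Or.inr ⟨h, fun h' => h1 ((U.mul_mem_cancel_left h).mp h')⟩
  have hinvol : ∀ x : (S : Subgroup A), x * x = 1 → x ∈ U := by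
    intro x hx
    obtain ⟨i, rfl | rfl⟩ := F.cover x
    · rw [F.e_mul_e, F.e_eq_one] at hx
      rcases (add_self_eq_zero_iff' hn1).mp hx with rfl | rfl
      · exact ⟨0, Or.inl (by rw [mul_zero])⟩
      · exact ⟨2 ^ (n - 2), Or.inl (congrArg F.e hh2)⟩
    · rw [F.ey_mul_ey, F.e_eq_one] at hx
      obtain ⟨t, rfl | rfl⟩ := even_or_odd' i
      · exact ⟨t, Or.inr rfl⟩
      · exfalso
        exact half_ne_zero hn1 (by linear_combination hx - half_mul_even hn1 t)
  by_cases hex : ∀ (g : A) (h : g * f * g⁻¹ ∈ (S : Subgroup A)), (⟨_, h⟩ : (S : Subgroup A)) ∉ U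
  · obtain ⟨K, hK⟩ := exists_index_two_of_no_conj S U hUidx
      (by rw [← H.f_ord]; exact pow_orderOf_eq_one f) hex hinvol
    exact not_index_two hperf hK
  push Not at hex
  obtain ⟨g, hg, i, hi | hi⟩ := hex
  swap
  · have : ((⟨g * f * g⁻¹, hg⟩ : (S : Subgroup A)) * ⟨g * f * g⁻¹, hg⟩ : (S : Subgroup A)) = 1 := by
      rw [hi, F.ey_mul_ey, F.e_eq_one]
      linear_combination half_mul_even hn1 i
    have h := congrArg Subtype.val this
    rw [Subgroup.coe_mul, conj_mul, Subgroup.coe_one] at h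
    exact H.z_ne_one (conj_eq_one_iff.mp h)
  -- `f` commutes with a cyclic group of order `2 ^ n`
  set C := Subgroup.centralizer ({f} : Set A) with hC
  let x0 : A := g⁻¹ * (F.e 1 : A) * g
  have hx0 : x0 ∈ C := by
    rw [hC, Subgroup.mem_centralizer_singleton_iff]
    have hcm : Commute ((F.e 1 : A)) (g * f * g⁻¹) := by
      have := congrArg Subtype.val (F.comm_e 1 (2 * i)).eq
      rw [← hi] at this
      exact this
    show g⁻¹ * (F.e 1 : A) * g * f = f * (g⁻¹ * (F.e 1 : A) * g)
    calc g⁻¹ * (F.e 1 : A) * g * f = g⁻¹ * ((F.e 1 : A) * (g * f * g⁻¹)) * g := by group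
      _ = g⁻¹ * ((g * f * g⁻¹) * (F.e 1 : A)) * g := by rw [hcm.eq]
      _ = _ := by group
  have hord : orderOf x0 = 2 ^ n := by
    have h := (MulAut.conj g⁻¹).orderOf_eq ((F.e 1 : A))
    rw [Subgroup.orderOf_coe, F.orderOf_e_one] at h
    rw [← h, MulAut.conj_apply, inv_inv]
  have hσC : ∀ x ∈ C, σ x ∈ C := by
    intro x hx
    rw [hC, Subgroup.mem_centralizer_singleton_iff] at hx ⊢
    rw [← H.f_fix, ← map_mul, ← map_mul, hx]
  set s := restrictAut H.sq C hσC with hs
  have hfC : f ∈ C := Subgroup.mem_centralizer_singleton_iff.mpr rfl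
  obtain ⟨R, hR, hRs⟩ := exists_fixed_sylow s
    (P := Subgroup.zpowers (⟨f, hfC⟩ : C))
    (IsPGroup.of_card_dvd_pow (n := 2) (by
      rw [Nat.card_zpowers, ← Subgroup.orderOf_coe, H.f_ord]; norm_num))
    (fun x hx => by
      obtain ⟨k, rfl⟩ := Subgroup.mem_zpowers_iff.mp hx
      rw [map_zpow, show s ⟨f, hfC⟩ = ⟨f, hfC⟩ from Subtype.ext H.f_fix]
      exact Subgroup.zpow_mem_zpowers _ k)
    (fun S' _ => by
      rw [smul_smul, show s * s = 1 from MulEquiv.ext fun x => Subtype.ext (H.sq x), one_smul])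
  have hR8 : 2 ^ n ≤ Nat.card R := by
    obtain ⟨R', hR'⟩ := (IsPGroup.of_card_dvd_pow (p := 2) (n := n)
      (G := Subgroup.zpowers (⟨x0, hx0⟩ : C)) (by
        rw [Nat.card_zpowers, ← Subgroup.orderOf_coe, hord])).exists_le_sylow
    have h1 := Subgroup.card_le_of_le hR'
    rw [Nat.card_zpowers, ← Subgroup.orderOf_coe, hord] at h1
    rw [R.card_eq_multiplicity, ← R'.card_eq_multiplicity]
    exact h1
  obtain ⟨S', hRS', hS'inv⟩ := H.exists_invariant_sylow (P := (R : Subgroup C).map C.subtype)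
    (R.isPGroup'.map _) (by
      rintro _ ⟨x, hx, rfl⟩
      exact ⟨_, hRs x hx, rfl⟩)
  have hfS' : f ∈ (S' : Subgroup A) := hRS' ⟨_, hR (Subgroup.mem_zpowers _), rfl⟩
  obtain ⟨m, hm, F', c', hc', hcodd'⟩ := H.semidihedral hperf hO S' hfS' hS'inv ha hb hab hne
  let ι : ↥(R : Subgroup C) → (S' : Subgroup A) := fun x => ⟨((x : C) : A), hRS' ⟨(x : C), x.2, rfl⟩⟩
  have hι : Function.Injective ι := fun x y h =>
    Subtype.ext (Subtype.ext (congrArg (fun t : (S' : Subgroup A) => (t : A)) h))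
  have hr : MaxType m (-1 + half m) := maxType_semidihedral hm
  let four : Finset (S' : Subgroup A) := {1, F'.e (half m), F'.e c' * F'.y, F'.e (c' + half m) * F'.y}
  have hmem : ∀ x, ι x ∈ four := by
    intro x
    have hcm : Commute (ι x) (F'.e c' * F'.y) := by
      rw [← hc']
      exact Subtype.ext (Subgroup.mem_centralizer_singleton_iff.mp (x : C).2)
    obtain ⟨j, hj | hj⟩ := F'.cover (ι x) <;> rw [hj] at hcm ⊢
    · rcases (F'.commute_e_ey_iff (by omega) hr).mp hcm with rfl | rfl <;>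
        simp [four, F'.map_zero]
    · rcases (F'.commute_ey_ey_iff (by omega) hr).mp hcm.symm with rfl | rfl <;>
        simp [four, F'.map_zero]
  haveI : Fintype (R : Subgroup C) := Fintype.ofFinite _
  have h4 : Nat.card (R : Subgroup C) ≤ 4 := by
    rw [Nat.card_eq_fintype_card, ← Finset.card_univ]
    refine le_trans (Finset.card_le_card_of_injOn ι (fun x _ => hmem x) hι.injOn) ?_
    exact Finset.card_le_four
  have h8 : (2 : ℕ) ^ 3 ≤ 2 ^ n := Nat.pow_le_pow_right (by norm_num) hn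
  omega

end CfsgLib.CyclicFourFix23
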