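import Cfsg.Agent.CyclicFourFix23.FourHomocyclic
import Cfsg.Agent.OddCons48.WeakCentral
import Cfsg.Agent.TransferBasic.Central
import Cfsg.Agent.TwoGroup.UniqueInvolution
import Cfsg.Agent.TwoGroup.MaximalClass

/-!
There is no invariant normal four-group.
-/

set_option autoImplicit false
set_option linter.style.haveILetI false

open scoped commutatorElement

namespace CfsgLib.CyclicFourFix23

universe u

variable {A : Type u} [Group A] {σ : MulAut A} {f e : A}

theorem NormalFour.contradiction [Finite A] (hperf : commutator A = ⊤)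
    (hO : Cfsg.pPrimeCore 2 A = ⊥) (S : Sylow 2 A) (W : NormalFour σ f (S : Subgroup A) e) : False := by
  classical
  haveI : Fact (Nat.Prime 2) := ⟨Nat.prime_two⟩
  set T := (S : Subgroup A) with hT
  have hinv : ∀ x ∈ T, x * x = 1 → x ∈ W.four := fun x hx hx2 => W.involutions_mem hperf S hx hx2
  set E := W.four with hE
  set z := f * f with hz
  have hz2 : orderOf z = 2 := W.hyp.orderOf_z
  -- `z` is central
  have hzc : z ∈ Subgroup.center A := by
    obtain ⟨N, hN, hodd, hNg⟩ :=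
      ZStar.exists_normal_odd_of_no_fusion hz2 S fun g hg => W.z_isolated hperf hO S g hg
    have hN1 : N = ⊥ := by
      rw [eq_bot_iff, ← hO]
      exact le_sSup ⟨hN, Nat.coprime_two_right.mpr hodd⟩
    rw [Subgroup.mem_center_iff]
    intro g
    have := hNg g
    rw [hN1, Subgroup.mem_bot, mul_inv_eq_one, mul_inv_eq_iff_eq_mul] at this
    exact this.symm
  have hzconj : ∀ g : A, g * z * g⁻¹ = z := fun g => by
    rw [Subgroup.mem_center_iff.mp hzc g, mul_inv_cancel_right]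
  haveI hZn : (Subgroup.zpowers z).Normal := TwoGroup.zpowers_normal_of_mem_center hzc
  have hZcases : ∀ x ∈ Subgroup.zpowers z, x = 1 ∨ x = z := by
    intro x hx
    obtain ⟨i, rfl⟩ := Subgroup.mem_zpowers_iff.mp hx
    rcases Int.even_or_odd' i with ⟨j, rfl | rfl⟩
    · left; rw [zpow_mul, zpow_two, W.hyp.z_sq, one_zpow]
    · right; rw [zpow_add, zpow_mul, zpow_two, W.hyp.z_sq, one_zpow, one_mul, zpow_one]
  -- `e` is central
  have hec : e ∈ Subgroup.center A := by
    set π := QuotientGroup.mk' (Subgroup.zpowers z) with hπ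
    let S' : Sylow 2 (A ⧸ Subgroup.zpowers z) := S.mapSurjective (QuotientGroup.mk'_surjective _)
    have he2 : orderOf (π e) = 2 := by
      refine orderOf_eq_prime ?_ ?_
      · rw [← map_pow, pow_two, W.e_sq, map_one]
      · intro h
        rcases hZcases e ((QuotientGroup.eq_one_iff e).mp h) with h' | h'
        exacts [W.e_ne_one h', W.e_ne_z h']
    have hez : π (e * z) = π e := by
      rw [map_mul, show π z = 1 from (QuotientGroup.eq_one_iff z).mpr (Subgroup.mem_zpowers z), mul_one]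
    have hfour : ∀ g : A, g * e * g⁻¹ ∈ T → g * e * g⁻¹ = e ∨ g * e * g⁻¹ = e * z := by
      intro g hg
      rcases hinv _ hg (by rw [conj_mul, W.e_sq, mul_one, mul_inv_cancel]) with h | h | h | h
      · exact absurd (conj_eq_one_iff.mp h) W.e_ne_one
      · exact absurd (mul_left_cancel (mul_right_cancel (h.trans (hzconj g).symm))) W.e_ne_z
      · exact Or.inl h
      · exact Or.inr h
    obtain ⟨N, hN, hodd, hNg⟩ := ZStar.exists_normal_odd_of_no_fusion he2 S' (fun y hy => by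
      obtain ⟨g, rfl⟩ := QuotientGroup.mk'_surjective _ y
      rw [← hπ, ← map_inv, ← map_mul, ← map_mul] at hy ⊢
      obtain ⟨s, hs, hsg⟩ := hy
      have hmem : g * e * g⁻¹ ∈ T := by
        have h1 := QuotientGroup.eq.mp (show (s : A ⧸ Subgroup.zpowers z) = ((g * e * g⁻¹ : A) : _) from hsg)
        have h2 : s⁻¹ * (g * e * g⁻¹) ∈ T := Subgroup.zpowers_le.mpr W.z_mem h1
        simpa using T.mul_mem hs h2
      rcases hfour g hmem with h | h <;> rw [h]
      exact hez)
    have hN1 : N = ⊥ := by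
      rw [eq_bot_iff, ← OddCons48.pPrimeCore_quotient_central hO hz2 hzc]
      exact le_sSup ⟨hN, Nat.coprime_two_right.mpr hodd⟩
    have hcase : ∀ g : A, g * e * g⁻¹ = e ∨ g * e * g⁻¹ = e * z := by
      intro g
      have := hNg (π g)
      rw [hN1, Subgroup.mem_bot, mul_inv_eq_one, mul_inv_eq_iff_eq_mul, ← map_mul, ← map_mul] at this
      have h1 := QuotientGroup.eq.mp (show ((e * g : A) : A ⧸ Subgroup.zpowers z) = ((g * e : A) : _) from this)
      have h2 : g * e = e * g * ((e * g)⁻¹ * (g * e)) := (mul_inv_cancel_left _ _).symm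
      rcases hZcases _ h1 with h | h <;> rw [h] at h2
      · left; rw [h2, mul_one, mul_inv_cancel_right]
      · right
        rw [h2, mul_assoc e g, Subgroup.mem_center_iff.mp hzc g, ← mul_assoc, mul_inv_cancel_right]
    rw [Subgroup.mem_center_iff]
    by_contra hne
    push Not at hne
    obtain ⟨a, ha⟩ := hne
    set H := Subgroup.centralizer ({e} : Set A) with hH
    have haH : a ∉ H := fun h => ha (Subgroup.mem_centralizer_singleton_iff.mp h)
    refine not_index_two hperf (H := H) (Subgroup.index_eq_two_iff.mpr ⟨a, fun b => ?_⟩)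
    by_cases hb : b ∈ H
    · exact Or.inr ⟨hb, fun h => haH ((H.mul_mem_cancel_left hb).mp h)⟩
    · refine Or.inl ⟨?_, hb⟩
      have hbv : b * e * b⁻¹ = e * z := (hcase b).resolve_left fun h =>
        hb (Subgroup.mem_centralizer_singleton_iff.mpr (mul_inv_eq_iff_eq_mul.mp h))
      have hav : a * e * a⁻¹ = e * z := (hcase a).resolve_left fun h =>
        ha (mul_inv_eq_iff_eq_mul.mp h)
      rw [hH, Subgroup.mem_centralizer_singleton_iff, ← mul_inv_eq_iff_eq_mul]
      calc b * a * e * (b * a)⁻¹ = b * (a * e * a⁻¹) * b⁻¹ := by group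
        _ = b * e * b⁻¹ * (b * z * b⁻¹) := by rw [hav]; group
        _ = e := by rw [hbv, hzconj, mul_assoc, W.hyp.z_sq, mul_one]
  have hEc : ∀ x : A, ∀ a ∈ E, x * a = a * x := by
    intro x a ha
    rcases ha with rfl | rfl | rfl | rfl
    · simp
    · exact Subgroup.mem_center_iff.mp hzc x
    · exact Subgroup.mem_center_iff.mp hec x
    · exact Subgroup.mem_center_iff.mp (Subgroup.mul_mem _ hec hzc) x
  -- `T / E` has a cyclic subgroup of index at most two
  obtain ⟨q, hq, x, hx, k, hxq, hform⟩ : ∃ q ∈ T, ∃ x ∈ T, ∃ k : ℤ,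
      (q ^ k)⁻¹ * (x * q * x⁻¹) ∈ E ∧
      ∀ y ∈ T, ∃ i : ℤ, (q ^ i)⁻¹ * y ∈ E ∨ (x * q ^ i)⁻¹ * y ∈ E := by
    by_cases h : ∃ u ∈ T, u * u ∈ E ∧ u ∉ E ∧ f⁻¹ * u ∉ E
    · obtain ⟨u, hu, hu2, huE, huf⟩ := h
      obtain ⟨n, -, -, hdq, -, -, hrep⟩ := W.dihedral_mod hu hu2 huE huf
      set q := u⁻¹ * σ u with hq
      refine ⟨q, T.mul_mem (T.inv_mem hu) (W.inv u hu), u, hu, -1, ?_, hrep⟩
      rw [zpow_neg, zpow_one, inv_inv]
      have := W.conj_four (T.mul_mem (T.inv_mem hu) (W.inv u hu)) hdq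
      rw [show q * (u * q * u⁻¹ * q) * q⁻¹ = q * (u * q * u⁻¹) by group] at this
      exact this
    · push Not at h
      haveI := W.four_normal
      set E' := E.subgroupOf T with hE'
      have hQ : IsPGroup 2 (T ⧸ E') := W.isP.to_quotient E'
      have heq : ∀ a b : T, ((a : T ⧸ E') = b) ↔ (a : A)⁻¹ * b ∈ E := fun a b => by
        rw [QuotientGroup.eq, Subgroup.mem_subgroupOf]; rfl
      have hone : ∀ a : T, ((a : T ⧸ E') = 1) ↔ (a : A) ∈ E := fun a => by
        rw [QuotientGroup.eq_one_iff, Subgroup.mem_subgroupOf]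
      have hamo : TwoGroup.AtMostOneInvolution (T ⧸ E') := by
        have key : ∀ y : T ⧸ E', orderOf y = 2 → y = ((⟨f, W.f_mem⟩ : T) : T ⧸ E') := by
          intro y hy
          induction y using QuotientGroup.induction_on with
          | H a =>
            have h1 : ((a * a : T) : T ⧸ E') = 1 := by
              rw [QuotientGroup.mk_mul, ← pow_two, ← hy, pow_orderOf_eq_one]
            have h2 : (a : A) ∉ E := fun h' => by
              rw [(hone a).mpr h', orderOf_one] at hy; omega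
            exact ((heq ⟨f, W.f_mem⟩ a).mpr (h a a.2 ((hone _).mp h1) h2)).symm
        exact fun a b ha hb => (key a ha).trans (key b hb).symm
      rcases TwoGroup.cyclic_or_quaternion_frame hQ hamo with hc | ⟨n, -, -, ⟨F⟩⟩
      · obtain ⟨g, hg⟩ := hc.exists_generator
        obtain ⟨q, rfl⟩ := QuotientGroup.mk'_surjective E' g
        refine ⟨q, q.2, 1, T.one_mem, 1, by simp [E.one_mem], fun y hy => ?_⟩
        obtain ⟨i, hi⟩ := Subgroup.mem_zpowers_iff.mp (hg ((⟨y, hy⟩ : T) : T ⧸ E'))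
        refine ⟨i, Or.inl ?_⟩
        have hi' : ((q ^ i : T) : T ⧸ E') = ((⟨y, hy⟩ : T) : T ⧸ E') := by
          rw [QuotientGroup.mk_zpow]; exact hi
        simpa using (heq _ _).mp hi'
      · obtain ⟨q, hqF⟩ := QuotientGroup.mk'_surjective E' (F.e 1)
        obtain ⟨x, hxF⟩ := QuotientGroup.mk'_surjective E' F.y
        have he : ∀ i : ℤ, F.e (i : ZMod (2 ^ n)) = ((q ^ i : T) : T ⧸ E') := fun i => by
          rw [QuotientGroup.mk_zpow, show (q : T ⧸ E') = F.e 1 from hqF, ← F.map_zsmul, mul_one]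
        refine ⟨q, q.2, x, x.2, -1, ?_, fun y hy => ?_⟩
        · have h1 : ((q ^ (-1 : ℤ) : T) : T ⧸ E') = ((x * q * x⁻¹ : T) : T ⧸ E') := by
            rw [← he, QuotientGroup.mk_mul, QuotientGroup.mk_mul, QuotientGroup.mk_inv,
              show (q : T ⧸ E') = F.e 1 from hqF, show (x : T ⧸ E') = F.y from hxF, F.conj_y,
              mul_inv_cancel_right]
            simp
          simpa using (heq _ _).mp h1
        · obtain ⟨i, hi | hi⟩ := F.cover ((⟨y, hy⟩ : T) : T ⧸ E')
          · obtain ⟨j, rfl⟩ := ZMod.intCast_surjective i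
            refine ⟨j, Or.inl ?_⟩
            simpa using (heq _ _).mp ((he j).symm.trans hi.symm)
          · obtain ⟨j, hj⟩ := ZMod.intCast_surjective ((-1 : ZMod (2 ^ n)) * i)
            refine ⟨j, Or.inr ?_⟩
            have h1 : ((x * q ^ j : T) : T ⧸ E') = ((⟨y, hy⟩ : T) : T ⧸ E') := by
              rw [hi, QuotientGroup.mk_mul, ← he, show (x : T ⧸ E') = F.y from hxF, F.conj_y, hj]
              congr 2
              ring
            simpa using (heq _ _).mp h1
  -- the commutators lie in a cyclic subgroup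
  set c := x * q * x⁻¹ * q⁻¹ with hc
  have hcqa : ∃ a ∈ E, x * q * x⁻¹ = q ^ k * a ∧ c = q ^ (k - 1) * a := by
    refine ⟨_, hxq, (mul_inv_cancel_left _ _).symm, ?_⟩
    calc c = q ^ k * ((q ^ k)⁻¹ * (x * q * x⁻¹)) * q⁻¹ := by rw [hc, mul_inv_cancel_left]
      _ = q ^ k * (((q ^ k)⁻¹ * (x * q * x⁻¹)) * q⁻¹) := mul_assoc _ _ _
      _ = q ^ k * (q⁻¹ * ((q ^ k)⁻¹ * (x * q * x⁻¹))) := by rw [← hEc q⁻¹ _ hxq]
      _ = _ := by group
  obtain ⟨a, ha, hxa, hca⟩ := hcqa
  have hac : ∀ y : A, Commute y a := fun y => hEc y a ha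
  have hcq : Commute c q := by
    rw [hca]; exact Commute.mul_left (Commute.zpow_self q _) (hac q).symm
  have hxc : x * c * x⁻¹ = c ^ k := by
    calc x * c * x⁻¹ = (x * q ^ (k - 1) * x⁻¹) * (x * a * x⁻¹) := by rw [hca]; group
      _ = (x * q * x⁻¹) ^ (k - 1) * a := by rw [conj_zpow, hEc x a ha, mul_inv_cancel_right]
      _ = (q ^ k * a) ^ (k - 1) * a := by rw [hxa]
      _ = q ^ (k * (k - 1)) * a ^ (k - 1) * a := by rw [(hac (q ^ k)).mul_zpow, ← zpow_mul]
      _ = q ^ ((k - 1) * k) * a ^ k := by rw [mul_assoc, ← zpow_add_one, sub_add_cancel, mul_comm k]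
      _ = c ^ k := by rw [hca, (hac (q ^ (k - 1))).mul_zpow, ← zpow_mul]
  have hxqj : ∀ j : ℤ, x * q ^ j * x⁻¹ * (q ^ j)⁻¹ = c ^ j := by
    intro j
    rw [← conj_zpow, show x * q * x⁻¹ = c * q by rw [hc, inv_mul_cancel_right], hcq.mul_zpow,
      mul_inv_cancel_right]
  set C := Subgroup.zpowers c with hC
  have hswapC : ∀ {g h : A}, g * h * g⁻¹ * h⁻¹ ∈ C → h * g * h⁻¹ * g⁻¹ ∈ C := fun {g h} hgh => by
    have := C.inv_mem hgh
    simpa [mul_assoc] using this
  have hgen : ∀ y ∈ T, ∃ i : ℤ, ∃ b ∈ E, y = q ^ i * b ∨ y = x * q ^ i * b := by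
    intro y hy
    obtain ⟨i, h | h⟩ := hform y hy
    · exact ⟨i, _, h, Or.inl (mul_inv_cancel_left _ y).symm⟩
    · exact ⟨i, _, h, Or.inr (mul_inv_cancel_left _ y).symm⟩
  have hcomm : ∀ y₁ ∈ T, ∀ y₂ ∈ T, y₁ * y₂ * y₁⁻¹ * y₂⁻¹ ∈ C := by
    have hdrop : ∀ g h b b' : A, b ∈ E → b' ∈ E →
        g * b * (h * b') * (g * b)⁻¹ * (h * b')⁻¹ = g * h * g⁻¹ * h⁻¹ := by
      intro g h b b' hb hb'
      calc g * b * (h * b') * (g * b)⁻¹ * (h * b')⁻¹
          = g * (b * (h * b') * b⁻¹) * g⁻¹ * b'⁻¹ * h⁻¹ := by group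
        _ = g * (h * b') * g⁻¹ * b'⁻¹ * h⁻¹ := by rw [← hEc (h * b') b hb, mul_inv_cancel_right]
        _ = g * h * (b' * g⁻¹) * b'⁻¹ * h⁻¹ := by group
        _ = _ := by rw [← hEc g⁻¹ b' hb']; group
    have hqq : ∀ i j : ℤ, q ^ i * q ^ j * (q ^ i)⁻¹ * (q ^ j)⁻¹ = 1 := fun i j => by group
    have hxq' : ∀ i j : ℤ, x * q ^ i * q ^ j * (x * q ^ i)⁻¹ * (q ^ j)⁻¹ = c ^ j := fun i j => by
      rw [← hxqj j]; group
    intro y₁ h₁ y₂ h₂
    obtain ⟨i, b, hb, rfl | rfl⟩ := hgen y₁ h₁ <;> obtain ⟨j, b', hb', rfl | rfl⟩ := hgen y₂ h₂ <;>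
      rw [hdrop _ _ b b' hb hb']
    · rw [hqq]; exact C.one_mem
    · refine hswapC ?_
      rw [hxq']; exact Subgroup.zpow_mem_zpowers c i
    · rw [hxq']; exact Subgroup.zpow_mem_zpowers c j
    · have e1 : x * q ^ i * (x * q ^ j) * (x * q ^ i)⁻¹ * (x * q ^ j)⁻¹ =
          x * (q ^ i * x * (q ^ i)⁻¹ * x⁻¹) * x⁻¹ * (x * (x * q ^ i * q ^ j * (x * q ^ i)⁻¹ * (q ^ j)⁻¹) * x⁻¹) := by
        group
      have e2 : q ^ i * x * (q ^ i)⁻¹ * x⁻¹ = (c ^ i)⁻¹ := by rw [← hxqj i]; group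
      rw [e1, e2, hxq', ← zpow_neg, ← conj_zpow, ← conj_zpow, hxc, ← zpow_mul, ← zpow_mul, ← zpow_add]
      exact Subgroup.zpow_mem_zpowers c _
  have hle : (commutator T).map T.subtype ≤ C := by
    rw [Subgroup.map_le_iff_le_comap, commutator_def, Subgroup.commutator_le]
    intro a _ b _
    rw [Subgroup.mem_comap, map_commutatorElement, commutatorElement_def]
    exact hcomm _ a.2 _ b.2
  have hmemC : ∀ a ∈ E, a ∈ C := by
    intro a ha
    refine hle ⟨⟨a, W.four_le ha⟩, TransferBasic.central_mem_commutator_of_coprime T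
      S.card_coprime_index a (Subgroup.mem_center_iff.mpr fun y => hEc y a ha) (W.four_le ha)
      (by rw [hperf]; trivial), rfl⟩
  -- but a cyclic group has at most one involution
  haveI : IsCyclic E := Subgroup.isCyclic_of_le (show E ≤ C from hmemC)
  haveI : Fintype E := Fintype.ofFinite E
  have h1 : (Finset.univ.filter (fun a : E => a ^ 2 = 1)).card ≤ 2 := IsCyclic.card_pow_eq_one_le (by norm_num)
  rw [Finset.filter_true_of_mem (fun a _ => Subtype.ext (by
    show (a : A) ^ 2 = 1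
    rw [pow_two]; exact W.four_sq a.2)), Finset.card_univ, ← Nat.card_eq_fintype_card,
    W.card_four] at h1
  omega

end CfsgLib.CyclicFourFix23
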