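import Cfsg.Agent.CyclicFourFix23.FourInvolution
import Cfsg.Agent.S0949

/-!
The central involution of the normal four-group is isolated: otherwise the Sylow subgroup would be
homocyclic of type `(4, 4)`.
-/

set_option autoImplicit false
set_option linter.style.haveILetI false
set_option maxHeartbeats 400000

open MulAction Pointwise
open scoped commutatorElement

namespace CfsgLib.CyclicFourFix23

variable {A : Type*} [Group A] {σ : MulAut A} {f e : A}

theorem mem_normalizer_of_conj [Finite A] {H : Subgroup A} {g : A} (h : ∀ a ∈ H, g * a * g⁻¹ ∈ H) :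
    g ∈ Subgroup.normalizer (H : Set A) := by
  have he : H.map (MulAut.conj g).toMonoidHom = H := by
    refine Subgroup.eq_of_le_of_card_ge ?_ ?_
    · rintro _ ⟨a, ha, rfl⟩; exact h a ha
    · rw [Subgroup.card_map_of_injective (MulAut.conj g).injective]
  refine Subgroup.mem_normalizer_iff.mpr fun a => ⟨h a, fun ha => ?_⟩
  rw [← he] at ha
  obtain ⟨b, hb, hba⟩ := ha
  have : b = a := (MulAut.conj g).injective hba
  exact this ▸ hb

theorem NormalFour.swap {T : Subgroup A} (W : NormalFour σ f T e) :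
    NormalFour σ f T (e * (f * f)) where
  hyp := W.hyp
  isP := W.isP
  inv := W.inv
  f_mem := W.f_mem
  e_mem := T.mul_mem W.e_mem W.z_mem
  e_sq := W.four_sq (W.four.mul_mem W.e_mem_four W.z_mem_four)
  e_ne_one := W.ez_ne_one
  e_ne_z := W.ez_ne_z
  σ_e := by rw [W.σ_ez, mul_assoc, W.hyp.z_sq, mul_one]
  z_comm := W.z_comm
  e_conj := fun x hx => by
    have hzx : x * (f * f) * x⁻¹ = f * f := by rw [W.z_comm x hx, mul_inv_cancel_right]
    rcases W.e_conj x hx with h | h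
    · left; rw [← conj_mul, h, hzx]
    · right; rw [← conj_mul, h, hzx]

/-- An automorphism of a finite perfect group with trivial core cannot have a homocyclic `(4, 4)` Sylow
2-subgroup. -/
theorem not_homocyclic [Finite A] (hperf : commutator A = ⊤) (hO : Cfsg.pPrimeCore 2 A = ⊥)
    (S : Sylow 2 A) (e4 : (S : Subgroup A) ≃* Multiplicative (ZMod 4 × ZMod 4)) : False := by
  haveI : Fact (Nat.Prime 2) := ⟨Nat.prime_two⟩
  obtain ⟨hn, -, hidx⟩ := Cfsg.Agent.S0949.result S 2 le_rfl e4 (fun N hN hodd => by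
    rw [eq_bot_iff, ← hO]
    exact le_sSup ⟨hN, Nat.coprime_two_right.mpr hodd⟩)
  haveI := hn
  have hle : commutator A ≤ (S : Subgroup A) := by
    haveI : IsCyclic (A ⧸ (S : Subgroup A)) := by
      rcases hidx with h | h
      · haveI : Subsingleton (A ⧸ (S : Subgroup A)) :=
          (Nat.card_eq_one_iff_unique.mp (by rw [← Subgroup.index_eq_card, h])).1
        infer_instance
      · haveI : Fact (Nat.Prime 3) := ⟨Nat.prime_three⟩
        exact isCyclic_of_prime_card (p := 3) (by rw [← Subgroup.index_eq_card, h])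
    rw [commutator_def, Subgroup.commutator_le]
    intro a _ b _
    rw [← QuotientGroup.eq_one_iff]
    show (QuotientGroup.mk' (S : Subgroup A)) ⁅a, b⁆ = 1
    rw [map_commutatorElement, commutatorElement_eq_one_iff_mul_comm]
    exact IsCyclic.commGroup.mul_comm _ _
  rw [hperf, top_le_iff] at hle
  have hab : ∀ a b : A, a * b = b * a := by
    intro a b
    have := e4.injective (show e4 (⟨a, hle ▸ Subgroup.mem_top a⟩ * ⟨b, hle ▸ Subgroup.mem_top b⟩) =
      e4 (⟨b, hle ▸ Subgroup.mem_top b⟩ * ⟨a, hle ▸ Subgroup.mem_top a⟩) by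
        rw [map_mul, map_mul, mul_comm])
    exact congrArg Subtype.val this
  have hbot : commutator A = ⊥ := by
    rw [commutator_def, Subgroup.commutator_eq_bot_iff_le_centralizer]
    intro a _
    rw [Subgroup.mem_centralizer_iff]
    exact fun b _ => hab b a
  have hcard : Nat.card (S : Subgroup A) = 16 := by
    rw [Nat.card_congr e4.toEquiv]
    simp
  rw [hle, ← hperf, hbot, Subgroup.card_bot] at hcard
  omega

theorem NormalFour.not_conj_eq_e [Finite A] (hperf : commutator A = ⊤)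
    (hO : Cfsg.pPrimeCore 2 A = ⊥) (S : Sylow 2 A) (W : NormalFour σ f (S : Subgroup A) e) (g : A) :
    g * (f * f) * g⁻¹ ≠ e := by
  classical
  haveI : Fact (Nat.Prime 2) := ⟨Nat.prime_two⟩
  intro hg
  set T := (S : Subgroup A) with hT
  have hinv : ∀ x ∈ T, x * x = 1 → x ∈ W.four := fun x hx hx2 => W.involutions_mem hperf S hx hx2
  have hfe := W.commute_f_e hperf S
  have hfa : ∀ a ∈ W.four, f * a = a * f := fun a ha => W.commute_four W.f_mem hfe ha
  set E := W.four with hE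
  set N := Subgroup.normalizer (E : Set A) with hN
  have hTN : T ≤ N := fun x hx => mem_normalizer_of_conj fun a ha => W.conj_four hx ha
  have hNmem : ∀ {n a : A}, n ∈ N → a ∈ E → n * a * n⁻¹ ∈ E := fun hn ha =>
    (Subgroup.mem_normalizer_iff.mp hn _).mp ha
  have heE : e ∈ E := W.e_mem_four
  have hezE : e * (f * f) ∈ E := E.mul_mem heE W.z_mem_four
  -- an element of `N` moving `z` to `e`
  have hTC : T ≤ Subgroup.centralizer ({f * f} : Set A) := fun x hx =>
    Subgroup.mem_centralizer_singleton_iff.mpr (W.z_comm x hx)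
  obtain ⟨c, hc, hcE⟩ := TwoRankTwo23.exists_conj_mem_sylow (S := S) hTC
    (Q := E.map (MulAut.conj g⁻¹).toMonoidHom) ((W.isP.to_le W.four_le).map _) (by
      rintro _ ⟨a, ha, rfl⟩
      rw [Subgroup.mem_centralizer_singleton_iff]
      show g⁻¹ * a * g⁻¹⁻¹ * (f * f) = f * f * (g⁻¹ * a * g⁻¹⁻¹)
      have he : f * f = g⁻¹ * e * g := by rw [← hg]; group
      rw [he]
      calc g⁻¹ * a * g⁻¹⁻¹ * (g⁻¹ * e * g) = g⁻¹ * (a * e) * g := by group
        _ = g⁻¹ * (e * a) * g := by rw [W.four_comm ha heE]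
        _ = _ := by group)
  obtain ⟨n, hnN, hnz⟩ : ∃ n ∈ N, n * (f * f) * n⁻¹ = e := by
    refine ⟨(c * g⁻¹)⁻¹, Subgroup.inv_mem _ (mem_normalizer_of_conj fun a ha => ?_), ?_⟩
    · refine hinv _ ?_ ?_
      · have := hcE _ (Subgroup.mem_map_of_mem (MulAut.conj g⁻¹).toMonoidHom ha)
        rw [show c * g⁻¹ * a * (c * g⁻¹)⁻¹ = c * (g⁻¹ * a * g⁻¹⁻¹) * c⁻¹ by group]
        exact this
      · rw [conj_mul, W.four_sq ha, mul_one, mul_inv_cancel]
    · have hcz := Subgroup.mem_centralizer_singleton_iff.mp (Subgroup.inv_mem _ hc)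
      calc (c * g⁻¹)⁻¹ * (f * f) * (c * g⁻¹)⁻¹⁻¹ = g * (c⁻¹ * (f * f)) * c * g⁻¹ := by group
        _ = g * (f * f) * g⁻¹ := by rw [hcz]; group
        _ = e := hg
  -- a three-cycle in `N`
  have hnE : ∀ {x y : A}, n * x * n⁻¹ = n * y * n⁻¹ → x = y :=
    fun h => mul_left_cancel (mul_right_cancel h)
  obtain ⟨θ, hθN, a, b, hab, hθz, hθa, hθb⟩ : ∃ θ ∈ N, ∃ a b : A,
      ((a = e ∧ b = e * (f * f)) ∨ (a = e * (f * f) ∧ b = e)) ∧
      θ * (f * f) * θ⁻¹ = a ∧ θ * a * θ⁻¹ = b ∧ θ * b * θ⁻¹ = f * f := by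
    have hne' : n * e * n⁻¹ ≠ e := fun h => W.e_ne_z (hnE (h.trans hnz.symm))
    have hne1 : n * e * n⁻¹ ≠ 1 := fun h => W.e_ne_one (conj_eq_one_iff.mp h)
    have hnez : n * (e * (f * f)) * n⁻¹ = n * e * n⁻¹ * e := by rw [← conj_mul, hnz]
    rcases hNmem hnN heE with h | h | h | h
    · exact absurd h hne1
    · -- a transposition of `z` and `e`: compose with an element of `T` swapping `e` and `ez`
      obtain ⟨m, hm, k, hk⟩ := exists_twoPart_pow n
      have h1 := conj_odd_pow hnz h hm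
      have h2 := conj_odd_pow h hnz hm
      obtain ⟨d, hd, hdT⟩ := TwoRankTwo23.exists_conj_mem_sylow (S := S) hTN
        (Q := Subgroup.zpowers (n ^ m))
        (IsPGroup.of_card_dvd_pow (n := k) (by rw [Nat.card_zpowers, hk]))
        (Subgroup.zpowers_le.mpr (pow_mem hnN m))
      set x := d * n ^ m * d⁻¹ with hx
      have hxT : x ∈ T := hdT _ (Subgroup.mem_zpowers _)
      have hxe : x * e * x⁻¹ = e * (f * f) := by
        refine (W.e_conj x hxT).resolve_left fun hxe => ?_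
        have hxc : ∀ a ∈ E, x * a * x⁻¹ = a := fun a ha =>
          mul_inv_eq_iff_eq_mul.mpr (W.commute_four hxT (mul_inv_eq_iff_eq_mul.mp hxe) ha)
        have h3 := hxc _ (hNmem hd heE)
        rw [hx, show d * n ^ m * d⁻¹ * (d * e * d⁻¹) * (d * n ^ m * d⁻¹)⁻¹ =
          d * (n ^ m * e * (n ^ m)⁻¹) * d⁻¹ by group] at h3
        rw [h2] at h3
        exact W.e_ne_z (mul_left_cancel (mul_right_cancel h3)).symm
      have hxz : x * (f * f) * x⁻¹ = f * f := by rw [W.z_comm x hxT, mul_inv_cancel_right]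
      have hxez : x * (e * (f * f)) * x⁻¹ = e := by
        rw [← conj_mul, hxe, hxz, mul_assoc, W.hyp.z_sq, mul_one]
      refine ⟨x * n, mul_mem (hTN hxT) hnN, e * (f * f), e, Or.inr ⟨rfl, rfl⟩, ?_, ?_, ?_⟩
      · rw [show x * n * (f * f) * (x * n)⁻¹ = x * (n * (f * f) * n⁻¹) * x⁻¹ by group, hnz, hxe]
      · rw [show x * n * (e * (f * f)) * (x * n)⁻¹ = x * (n * (e * (f * f)) * n⁻¹) * x⁻¹ by group,
          hnez, h, ← W.ez, hxez]
      · rw [show x * n * e * (x * n)⁻¹ = x * (n * e * n⁻¹) * x⁻¹ by group, h, hxz]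
    · exact absurd h hne'
    · refine ⟨n, hnN, e, e * (f * f), Or.inl ⟨rfl, rfl⟩, hnz, h, ?_⟩
      rw [hnez, h, W.ez, mul_assoc, W.e_sq, mul_one]
  have hab' : a ∈ E ∧ b ∈ E ∧ a ≠ 1 ∧ b ≠ 1 ∧ a ≠ f * f ∧ b ≠ f * f ∧ a ≠ b := by
    rcases hab with ⟨rfl, rfl⟩ | ⟨rfl, rfl⟩
    · exact ⟨heE, hezE, W.e_ne_one, W.ez_ne_one, W.e_ne_z, W.ez_ne_z, W.ez_ne.symm⟩
    · exact ⟨hezE, heE, W.ez_ne_one, W.e_ne_one, W.ez_ne_z, W.e_ne_z, W.ez_ne⟩
  obtain ⟨haE, hbE, ha1, hb1, haz, hbz, hane⟩ := hab'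
  have hEcases : ∀ x ∈ E, x = 1 ∨ x = f * f ∨ x = a ∨ x = b := by
    intro x hx
    rcases hab with ⟨rfl, rfl⟩ | ⟨rfl, rfl⟩ <;> rcases hx with h | h | h | h
    all_goals first
      | exact Or.inl h
      | exact Or.inr (Or.inl h)
      | exact Or.inr (Or.inr (Or.inl h))
      | exact Or.inr (Or.inr (Or.inr h))
  -- Frattini: normalise the centraliser of `E` in `T`
  set C := Subgroup.centralizer (E : Set A) with hC
  set M := T ⊓ C with hM
  have hnorm : ∀ m ∈ N, ∀ x ∈ C, m * x * m⁻¹ ∈ C := by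
    intro m hm x hx
    rw [hC, Subgroup.mem_centralizer_iff] at hx ⊢
    intro k hk
    have := hx _ (hNmem (Subgroup.inv_mem _ hm) hk)
    calc k * (m * x * m⁻¹) = m * ((m⁻¹ * k * m⁻¹⁻¹) * x) * m⁻¹ := by group
      _ = m * x * m⁻¹ * k := by rw [this]; group
  have hMC : M ≤ C := inf_le_right
  have hMp : IsPGroup 2 M := W.isP.to_le inf_le_left
  obtain ⟨R, hR⟩ := (hMp.comap_of_injective C.subtype C.subtype_injective).exists_le_sylow
  have hRM : (R : Subgroup C).map C.subtype = M := by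
    have hle : M ≤ (R : Subgroup C).map C.subtype := fun x hx =>
      ⟨⟨x, hMC hx⟩, hR (show (⟨x, hMC hx⟩ : C) ∈ M.comap C.subtype from hx), rfl⟩
    refine (Subgroup.eq_of_le_of_card_ge hle ?_).symm
    have hRC : (R : Subgroup C).map C.subtype ≤ C := Subgroup.map_subtype_le _
    have hCN : C ≤ N := fun x hx => mem_normalizer_of_conj fun k hk => by
      rw [hC, Subgroup.mem_centralizer_iff] at hx
      rw [← hx k hk, mul_inv_cancel_right]
      exact hk
    obtain ⟨d, hd, hdR⟩ := TwoRankTwo23.exists_conj_mem_sylow (S := S) hTN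
      (Q := (R : Subgroup C).map C.subtype) (R.isPGroup'.map _) (hRC.trans hCN)
    rw [← Subgroup.card_map_of_injective (f := (MulAut.conj d).toMonoidHom) (MulAut.conj d).injective]
    refine Subgroup.card_le_of_le ?_
    rintro _ ⟨x, hx, rfl⟩
    exact ⟨hdR x hx, hnorm d hd x (hRC hx)⟩
  have hθM : M.map (MulAut.conj θ).toMonoidHom ≤ C := by
    rintro _ ⟨x, hx, rfl⟩
    exact hnorm θ hθN x (hMC hx)
  obtain ⟨R', hR'⟩ := ((hMp.map (MulAut.conj θ).toMonoidHom).comap_of_injective C.subtype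
    C.subtype_injective).exists_le_sylow
  obtain ⟨k, hk⟩ := MulAction.exists_smul_eq C R' R
  have hkM : ∀ x ∈ M, (k : A) * θ * x * ((k : A) * θ)⁻¹ ∈ M := by
    intro x hx
    have hθx : θ * x * θ⁻¹ ∈ C := hnorm θ hθN x (hMC hx)
    have h1 : (⟨θ * x * θ⁻¹, hθx⟩ : C) ∈ (R' : Subgroup C) := hR' ⟨x, hx, rfl⟩
    have h2 : k * ⟨θ * x * θ⁻¹, hθx⟩ * k⁻¹ ∈ (R : Subgroup C) := by
      rw [← hk]
      exact Subgroup.smul_mem_pointwise_smul _ (MulAut.conj k) _ h1
    rw [← hRM]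
    refine ⟨_, h2, ?_⟩
    simp [mul_assoc]
  set φ := (k : A) * θ with hφ
  have hφE : ∀ x ∈ E, φ * x * φ⁻¹ = θ * x * θ⁻¹ := by
    intro x hx
    have h1 := Subgroup.mem_centralizer_iff.mp k.2 _ (hNmem hθN hx)
    calc φ * x * φ⁻¹ = k * (θ * x * θ⁻¹) * (k : A)⁻¹ := by rw [hφ]; group
      _ = θ * x * θ⁻¹ := by rw [← h1]; group
  have hφz : φ * (f * f) * φ⁻¹ = a := (hφE _ W.z_mem_four).trans hθz
  have hφa : φ * a * φ⁻¹ = b := (hφE _ haE).trans hθa
  have hfM : f ∈ M := ⟨W.f_mem, Subgroup.mem_centralizer_iff.mpr fun x hx => (hfa x hx).symm⟩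
  set d := φ * f * φ⁻¹ with hd
  have hdM : d ∈ M := hkM f hfM
  have hd2 : d * d = a := by rw [hd, conj_mul, hφz]
  have hdT : d ∈ T := hdM.1
  have hdE : d ∉ E := fun h => ha1 (hd2 ▸ W.four_sq h)
  have hfsq : ∀ x ∈ E, f * x * (f * x) = f * f := by
    intro x hx
    calc f * x * (f * x) = f * (x * f) * x := by group
      _ = f * f * (x * x) := by rw [← hfa x hx]; group
      _ = f * f := by rw [W.four_sq hx, mul_one]
  have hdf : f⁻¹ * d ∉ E := fun h => haz (by
    rw [← hd2]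
    calc d * d = f * (f⁻¹ * d) * (f * (f⁻¹ * d)) := by group
      _ = f * f := hfsq _ h)
  -- the quotient by `E` is a four-group
  obtain ⟨m, hm, -, hdq, hiff, hhalf, hrep⟩ :=
    W.dihedral_mod hdT (by rw [hd2]; exact haE) hdE hdf
  set q := d⁻¹ * σ d with hq
  have hσC : σ d ∈ C := by
    rw [hC, Subgroup.mem_centralizer_iff]
    intro x hx
    have h : σ (σ x) * σ d = σ d * σ (σ x) := by
      rw [← map_mul, ← map_mul]
      exact congrArg σ (Subgroup.mem_centralizer_iff.mp (hMC hdM) _ (W.σ_four hx))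
    rwa [W.hyp.sq] at h
  have hqT : q ∈ T := T.mul_mem (T.inv_mem hdT) (W.inv d hdT)
  have hqC : q ∈ C := C.mul_mem (C.inv_mem (hMC hdM)) hσC
  have hEc : ∀ x ∈ T, ∀ y ∈ E, x * y = y * x := by
    have hgen : ∀ x ∈ T, x ∈ C := by
      intro x hx
      have hEC : E ≤ C := fun y hy => Subgroup.mem_centralizer_iff.mpr fun z hz => W.four_comm hz hy
      obtain ⟨i, h | h⟩ := hrep x hx
      · rw [show x = q ^ i * ((q ^ i)⁻¹ * x) by group]
        exact C.mul_mem (C.zpow_mem hqC i) (hEC h)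
      · rw [show x = d * q ^ i * ((d * q ^ i)⁻¹ * x) by group]
        exact C.mul_mem (C.mul_mem (hMC hdM) (C.zpow_mem hqC i)) (hEC h)
    intro x hx y hy
    exact (Subgroup.mem_centralizer_iff.mp (hgen x hx) y hy).symm
  have hMT : ∀ x ∈ T, x ∈ M := fun x hx =>
    ⟨hx, Subgroup.mem_centralizer_iff.mpr fun y hy => (hEc x hx y hy).symm⟩
  have hφT : ∀ x ∈ T, φ * x * φ⁻¹ ∈ T := fun x hx => (hkM x (hMT x hx)).1
  -- the class of `f` is central modulo `E`
  set v := q ^ (2 ^ (m - 1)) with hv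
  have hswap : ∀ x ∈ T, ∀ y ∈ E, ∀ i : A, i * (x * y) = i * x * y := fun x _ y _ i => (mul_assoc i x y).symm
  have hfd : f * d * f⁻¹ * d⁻¹ ∈ E := by
    have h1 : d * v * d⁻¹ * v ∈ E := by
      have hmk : ∀ j : ℕ, d * q ^ j * d⁻¹ * q ^ j ∈ E := by
        intro j
        induction j with
        | zero => simp [E.one_mem]
        | succ j ih =>
          have e1 : d * q ^ (j + 1) * d⁻¹ * q ^ (j + 1) =
              (d * q ^ j * d⁻¹) * (d * q * d⁻¹ * q) * q ^ j := by
            rw [pow_succ, ← pow_succ q j]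
            nth_rw 2 [pow_succ']
            group
          rw [e1, mul_assoc (d * q ^ j * d⁻¹), ← hEc _ (T.pow_mem hqT j) _ hdq, ← mul_assoc]
          exact E.mul_mem ih hdq
      exact hmk _
    have h2 : v * v ∈ E := by
      rw [hv, ← pow_add, ← two_mul, ← pow_succ', Nat.sub_add_cancel hm, ← zpow_natCast]
      exact (hiff _).mpr dvd_rfl
    set w := f⁻¹ * v with hw
    have hvw : v = f * w := by rw [hw, mul_inv_cancel_left]
    have h3 : d * v * d⁻¹ * v⁻¹ ∈ E := by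
      have : d * v * d⁻¹ * v⁻¹ = d * v * d⁻¹ * v * (v * v)⁻¹ := by group
      rw [this]
      exact E.mul_mem h1 (E.inv_mem h2)
    rw [hvw] at h3
    have h4 : d * (f * w) * d⁻¹ * (f * w)⁻¹ = d * f * d⁻¹ * f⁻¹ := by
      calc d * (f * w) * d⁻¹ * (f * w)⁻¹ = d * f * (w * d⁻¹) * w⁻¹ * f⁻¹ := by group
        _ = d * f * d⁻¹ * f⁻¹ := by rw [← hEc _ (T.inv_mem hdT) _ hhalf]; group
    rw [h4] at h3
    simpa [mul_assoc] using E.inv_mem h3
  have hfq : f * q * f⁻¹ * q⁻¹ ∈ E := by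
    set w := f⁻¹ * v with hw
    have hvw : f = v * w⁻¹ := by rw [hw]; group
    have e1 : f * q * f⁻¹ * q⁻¹ = 1 := by
      rw [hvw]
      calc v * w⁻¹ * q * (v * w⁻¹)⁻¹ * q⁻¹ = v * (w⁻¹ * q) * w * v⁻¹ * q⁻¹ := by group
        _ = v * q * v⁻¹ * q⁻¹ := by rw [← hEc q hqT _ (E.inv_mem hhalf)]; group
        _ = q * v * v⁻¹ * q⁻¹ := by rw [hv, (Commute.pow_self q _).eq]
        _ = 1 := by group
    rw [e1]; exact E.one_mem
  have hfx : ∀ x ∈ T, f * x * f⁻¹ * x⁻¹ ∈ E := by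
    have hmul : ∀ x y, y ∈ T → f * x * f⁻¹ * x⁻¹ ∈ E → f * y * f⁻¹ * y⁻¹ ∈ E →
        x ∈ T → f * (x * y) * f⁻¹ * (x * y)⁻¹ ∈ E := by
      intro x y hy h1 h2 hx
      rw [show f * (x * y) * f⁻¹ * (x * y)⁻¹ = f * x * f⁻¹ * (f * y * f⁻¹ * y⁻¹) * x⁻¹ by group,
        hEc _ (T.mul_mem (T.mul_mem W.f_mem hx) (T.inv_mem W.f_mem)) _ h2, mul_assoc]
      exact E.mul_mem h2 h1
    let Z : Subgroup A :=
      { carrier := {x | x ∈ T ∧ f * x * f⁻¹ * x⁻¹ ∈ E}
        one_mem' := ⟨T.one_mem, by simp [E.one_mem]⟩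
        mul_mem' := fun hx hy => ⟨T.mul_mem hx.1 hy.1, hmul _ _ hy.1 hx.2 hy.2 hx.1⟩
        inv_mem' := fun {x} hx => ⟨T.inv_mem hx.1, by
          have h1 := E.inv_mem hx.2
          rw [show f * x⁻¹ * f⁻¹ * x⁻¹⁻¹ = x⁻¹ * (f * x * f⁻¹ * x⁻¹)⁻¹ * x by group,
            hEc _ (T.inv_mem hx.1) _ h1, inv_mul_cancel_right]
          exact h1⟩ }
    intro x hx
    have hqZ : q ∈ Z := ⟨hqT, hfq⟩
    have hdZ : d ∈ Z := ⟨hdT, hfd⟩
    have hEZ : ∀ y ∈ E, y ∈ Z := fun y hy => ⟨W.four_le hy, by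
      rw [hfa y hy]; simp [E.one_mem]⟩
    obtain ⟨i, h | h⟩ := hrep x hx
    · have := Z.mul_mem (Z.zpow_mem hqZ i) (hEZ _ h)
      rw [mul_inv_cancel_left] at this
      exact this.2
    · have := Z.mul_mem (Z.mul_mem hdZ (Z.zpow_mem hqZ i)) (hEZ _ h)
      rw [mul_inv_cancel_left] at this
      exact this.2
  have hdx : d * q * d⁻¹ * q⁻¹ ∈ E := by
    have hq' : φ⁻¹ * q * φ ∈ T := by
      have hφinv : φ⁻¹ ∈ Subgroup.normalizer (T : Set A) :=
        Subgroup.inv_mem _ (mem_normalizer_of_conj hφT)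
      simpa using (Subgroup.mem_normalizer_iff.mp hφinv q).mp hqT
    have h1 := hfx _ hq'
    have h2 : φ * (f * (φ⁻¹ * q * φ) * f⁻¹ * (φ⁻¹ * q * φ)⁻¹) * φ⁻¹ = d * q * d⁻¹ * q⁻¹ := by
      rw [hd]; group
    rw [← h2, hφE _ h1]
    exact hNmem hθN h1
  have hm1 : m = 1 := by
    have h2 : q ^ (2 : ℤ) ∈ E := by
      rw [zpow_two, show q * q = (d * q * d⁻¹ * q⁻¹)⁻¹ * (d * q * d⁻¹ * q) by group]
      exact E.mul_mem (E.inv_mem hdx) hdq
    have h3 := Int.le_of_dvd (by norm_num) ((hiff 2).mp h2)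
    by_contra hne
    have : 2 ^ 2 ≤ 2 ^ m := Nat.pow_le_pow_right (by norm_num) (by omega)
    omega
  subst hm1
  simp only [Nat.sub_self, pow_zero, pow_one] at hv hiff
  rw [hv] at hhalf
  have hcos : ∀ x ∈ T, ∃ y ∈ E, x = y ∨ x = f * y ∨ x = d * y ∨ x = d * f * y := by
    intro x hx
    have hq0 : ∀ i : ℤ, q ^ i ∈ E ∨ f⁻¹ * q ^ i ∈ E := by
      intro i
      rcases Int.even_or_odd' i with ⟨j, rfl | rfl⟩
      · exact Or.inl ((hiff _).mpr (dvd_mul_right _ _))
      · refine Or.inr ?_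
        rw [add_comm, zpow_add, zpow_one, ← mul_assoc]
        exact E.mul_mem hhalf ((hiff _).mpr (dvd_mul_right _ _))
    obtain ⟨i, h | h⟩ := hrep x hx <;> rcases hq0 i with hi | hi
    · exact ⟨_, E.mul_mem hi h, Or.inl (mul_inv_cancel_left _ x).symm⟩
    · refine ⟨_, E.mul_mem hi h, Or.inr (Or.inl ?_)⟩
      group
    · refine ⟨_, E.mul_mem hi h, Or.inr (Or.inr (Or.inl ?_))⟩
      group
    · refine ⟨_, E.mul_mem hi h, Or.inr (Or.inr (Or.inr ?_))⟩
      group
  -- `T` is abelian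
  set c' := f * d * f⁻¹ * d⁻¹ with hc'
  have hc1 : c' = 1 := by
    have hd' : φ * d * φ⁻¹ ∈ T := hφT d hdT
    set d' := φ * d * φ⁻¹ with hd'def
    have hd'2 : d' * d' = b := by rw [hd'def, conj_mul, hd2, hφa]
    have hfix : φ * c' * φ⁻¹ = c' := by
      have e0 : φ * c' * φ⁻¹ = d * d' * d⁻¹ * d'⁻¹ := by rw [hc', hd'def, hd]; group
      rw [e0]
      obtain ⟨y, hy, h | h | h | h⟩ := hcos d' hd'
      · exact absurd (by rw [← hd'2, h, W.four_sq hy]) hb1
      · exact absurd (by rw [← hd'2, h, hfsq y hy]) hbz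
      · refine absurd ?_ hane
        rw [← hd'2, h]
        calc a = d * d * (y * y) := by rw [hd2, W.four_sq hy, mul_one]
          _ = d * (d * y) * y := by group
          _ = d * (y * d) * y := by rw [hEc d hdT y hy]
          _ = d * y * (d * y) := by group
      · have e1 : d * d' * d⁻¹ * d'⁻¹ = d * (d * f * d⁻¹ * f⁻¹) * d⁻¹ := by
          rw [h]
          calc d * (d * f * y) * d⁻¹ * (d * f * y)⁻¹ = d * d * f * (y * d⁻¹) * y⁻¹ * f⁻¹ * d⁻¹ := by
                group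
            _ = d * d * f * (d⁻¹ * y) * y⁻¹ * f⁻¹ * d⁻¹ := by rw [hEc _ (T.inv_mem hdT) y hy]
            _ = _ := by group
        have e2 : d * f * d⁻¹ * f⁻¹ = c' := by
          rw [show d * f * d⁻¹ * f⁻¹ = c'⁻¹ by rw [hc']; group, W.four_inv hfd]
        rw [e1, e2, hEc d hdT c' hfd, mul_inv_cancel_right]
    rw [hφE c' hfd] at hfix
    rcases hEcases c' hfd with h | h | h | h
    · exact h
    · rw [h, hθz] at hfix; exact absurd hfix haz
    · rw [h, hθa] at hfix; exact absurd hfix hane.symm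
    · rw [h, hθb] at hfix; exact absurd hfix hbz.symm
  have hcfd : Commute f d := commutatorElement_eq_one_iff_mul_comm.mp (by
    rw [commutatorElement_def, ← hc', hc1])
  have hf4 : ∀ i : ℕ, f ^ (i % 4) = f ^ i := fun i => by
    conv_rhs => rw [← pow_mod_orderOf, W.hyp.f_ord]
  have hd4o : orderOf d = 4 := orderOf_eq_prime_pow (p := 2) (n := 1)
    (by rw [pow_one, pow_two, hd2]; exact ha1)
    (by rw [show (2 : ℕ) ^ (1 + 1) = 2 * 2 by norm_num, pow_mul, pow_two d, hd2, pow_two,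
      W.four_sq haE])
  have hd4 : ∀ i : ℕ, d ^ (i % 4) = d ^ i := fun i => by
    conv_rhs => rw [← pow_mod_orderOf, hd4o]
  let ψ : Multiplicative (ZMod 4 × ZMod 4) →* T :=
    { toFun := fun x => ⟨f ^ x.toAdd.1.val * d ^ x.toAdd.2.val,
        T.mul_mem (T.pow_mem W.f_mem _) (T.pow_mem hdT _)⟩
      map_one' := Subtype.ext (by simp)
      map_mul' := fun x y => Subtype.ext (by
        show f ^ (x.toAdd.1 + y.toAdd.1).val * d ^ (x.toAdd.2 + y.toAdd.2).val =
          f ^ x.toAdd.1.val * d ^ x.toAdd.2.val * (f ^ y.toAdd.1.val * d ^ y.toAdd.2.val)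
        rw [ZMod.val_add, ZMod.val_add, hf4, hd4, pow_add, pow_add]
        exact (Commute.pow_pow hcfd _ _).mul_mul_mul_comm _ _) }
  have hψsurj : Function.Surjective ψ := by
    intro x
    have hrange : ∀ y ∈ T, ∃ i j : ℕ, y = f ^ i * d ^ j := by
      have hE' : ∀ y ∈ E, ∃ i j : ℕ, y = f ^ i * d ^ j := by
        intro y hy
        have hzab : f * f * a = b := by
          rcases hEcases _ (E.mul_mem W.z_mem_four haE) with h | h | h | h
          · exact absurd (by rw [eq_inv_of_mul_eq_one_right h, W.hyp.z_inv]) haz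
          · exact absurd (mul_eq_left.mp h) ha1
          · exact absurd (mul_eq_right.mp h) W.hyp.z_ne_one
          · exact h
        rcases hEcases y hy with rfl | rfl | rfl | rfl
        · exact ⟨0, 0, by simp⟩
        · exact ⟨2, 0, by simp [pow_two]⟩
        · exact ⟨0, 2, by simp [pow_two, hd2]⟩
        · exact ⟨2, 2, by rw [pow_two, pow_two, hd2, hzab]⟩
      intro y hy
      obtain ⟨w, hw, h | h | h | h⟩ := hcos y hy <;> obtain ⟨i, j, hij⟩ := hE' w hw <;>
        rw [h, hij]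
      · exact ⟨i, j, rfl⟩
      · exact ⟨1 + i, j, by rw [pow_add, pow_one, mul_assoc]⟩
      · exact ⟨i, 1 + j, by
          rw [pow_add, pow_one, ← mul_assoc, ← mul_assoc, (Commute.pow_left hcfd i).eq]⟩
      · exact ⟨1 + i, 1 + j, by
          calc d * f * (f ^ i * d ^ j) = f * (d * f ^ i) * d ^ j := by rw [← hcfd.eq]; group
            _ = f * (f ^ i * d) * d ^ j := by rw [(Commute.pow_left hcfd i).eq]
            _ = _ := by rw [pow_add, pow_add, pow_one, pow_one]; group⟩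
    obtain ⟨i, j, hij⟩ := hrange x x.2
    refine ⟨Multiplicative.ofAdd ((i : ZMod 4), (j : ZMod 4)), Subtype.ext ?_⟩
    show f ^ (i : ZMod 4).val * d ^ (j : ZMod 4).val = x
    rw [ZMod.val_natCast, ZMod.val_natCast, hf4, hd4, hij]
  have hψinj : Function.Injective ψ := by
    rw [injective_iff_map_eq_one]
    intro x hx
    have h : f ^ x.toAdd.1.val * d ^ x.toAdd.2.val = 1 := congrArg Subtype.val hx
    suffices x.toAdd.1.val = 0 ∧ x.toAdd.2.val = 0 by
      obtain ⟨h1, h2⟩ := this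
      rw [ZMod.val_eq_zero] at h1 h2
      exact Multiplicative.toAdd.injective (Prod.ext h1 h2)
    have hi := ZMod.val_lt x.toAdd.1
    have hj := ZMod.val_lt x.toAdd.2
    generalize x.toAdd.1.val = i, x.toAdd.2.val = j at h hi hj ⊢
    have hfE2 : f ^ 2 ∈ E := by rw [pow_two]; exact W.z_mem_four
    have hdE2 : d ^ 2 ∈ E := by rw [pow_two, hd2]; exact haE
    obtain ⟨i', rfl | rfl⟩ := Nat.even_or_odd' i <;> obtain ⟨j', rfl | rfl⟩ := Nat.even_or_odd' j
    · rw [pow_mul, pow_mul, pow_two, pow_two, hd2] at h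
      have : i' < 2 ∧ j' < 2 := by omega
      obtain ⟨h1, h2⟩ := this
      interval_cases i' <;> interval_cases j'
      · exact ⟨rfl, rfl⟩
      · rw [pow_zero, one_mul, pow_one] at h; exact absurd h ha1
      · rw [pow_zero, mul_one, pow_one] at h; exact absurd h W.hyp.z_ne_one
      · rw [pow_one, pow_one] at h
        exact absurd (by rw [eq_inv_of_mul_eq_one_right h, W.hyp.z_inv]) haz
    · exfalso
      refine hdE ((E.mul_mem_cancel_left (E.mul_mem (show f ^ (2 * i') ∈ E by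
        rw [pow_mul]; exact pow_mem hfE2 _) (show d ^ (2 * j') ∈ E by
        rw [pow_mul]; exact pow_mem hdE2 _))).mp ?_)
      rw [mul_assoc, ← pow_succ, h]; exact E.one_mem
    · exfalso
      refine W.f_notMem ((E.mul_mem_cancel_left (show f ^ (2 * i') ∈ E by
        rw [pow_mul]; exact pow_mem hfE2 _)).mp ?_)
      rw [← pow_succ]
      refine (E.mul_mem_cancel_right (show d ^ (2 * j') ∈ E by
        rw [pow_mul]; exact pow_mem hdE2 _)).mp ?_
      rw [h]; exact E.one_mem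
    · exfalso
      refine hdf ?_
      have h1 : f * d ∈ E := by
        refine (E.mul_mem_cancel_left (E.mul_mem (show f ^ (2 * i') ∈ E by
          rw [pow_mul]; exact pow_mem hfE2 _) (show d ^ (2 * j') ∈ E by
          rw [pow_mul]; exact pow_mem hdE2 _))).mp ?_
        have e1 : f ^ (2 * i') * d ^ (2 * j') * (f * d) = f ^ (2 * i' + 1) * d ^ (2 * j' + 1) := by
          rw [pow_succ, pow_succ]
          exact (Commute.pow_left hcfd.symm _).mul_mul_mul_comm _ _
        rw [e1, h]; exact E.one_mem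
      have h2 := E.mul_mem (E.inv_mem W.z_mem_four) h1
      rwa [show (f * f)⁻¹ * (f * d) = f⁻¹ * d by group] at h2
  exact not_homocyclic hperf hO S (MulEquiv.ofBijective ψ ⟨hψinj, hψsurj⟩).symm

/-- The central involution is isolated in its Sylow subgroup. -/
theorem NormalFour.z_isolated [Finite A] (hperf : commutator A = ⊤)
    (hO : Cfsg.pPrimeCore 2 A = ⊥) (S : Sylow 2 A) (W : NormalFour σ f (S : Subgroup A) e) (g : A)
    (hg : g * (f * f) * g⁻¹ ∈ (S : Subgroup A)) : g * (f * f) * g⁻¹ = f * f := by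
  rcases W.involutions_mem hperf S hg
    (by rw [conj_mul, W.hyp.z_sq, mul_one, mul_inv_cancel]) with h | h | h | h
  · exact absurd (conj_eq_one_iff.mp h) W.hyp.z_ne_one
  · exact h
  · exact absurd h (W.not_conj_eq_e hperf hO S g)
  · exact absurd h (W.swap.not_conj_eq_e hperf hO S g)

end CfsgLib.CyclicFourFix23
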