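import Cfsg.Agent.CyclicFourFix23.FourOutside
import Cfsg.Agent.TransferTwo.CentralInvolution
import Cfsg.Agent.Transfer.AbelianSylow
import Cfsg.Agent.TwoRankTwo23.Four

/-!
All involutions of the Sylow subgroup lie in the invariant normal four-group.
-/

set_option autoImplicit false
set_option linter.style.haveILetI false
set_option maxHeartbeats 400000

namespace CfsgLib.CyclicFourFix23

variable {A : Type*} [Group A] {σ : MulAut A} {f e : A}

theorem NormalFour.involutions_mem [Finite A] (hperf : commutator A = ⊤) (S : Sylow 2 A)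
    (W : NormalFour σ f (S : Subgroup A) e) {u : A} (hu : u ∈ (S : Subgroup A)) (hu2 : u * u = 1) :
    u ∈ W.four := by
  classical
  haveI : Fact (Nat.Prime 2) := ⟨Nat.prime_two⟩
  by_contra huE
  set T := (S : Subgroup A) with hT
  have hfe := W.commute_f_e hperf S
  have hui : u⁻¹ = u := inv_eq_of_mul_eq_one_right hu2
  have hfa : ∀ a ∈ W.four, f * a = a * f := fun a ha => W.commute_four W.f_mem hfe ha
  have huf : f⁻¹ * u ∉ W.four := by
    intro h
    have h1 : u = f * (f⁻¹ * u) := by group
    apply W.hyp.z_ne_one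
    calc f * f = f * f * ((f⁻¹ * u) * (f⁻¹ * u)) := by rw [W.four_sq h, mul_one]
      _ = f * ((f⁻¹ * u) * f) * (f⁻¹ * u) := by rw [← hfa _ h]; group
      _ = u * u := by group
      _ = 1 := hu2
  obtain ⟨n, hn, hσq, -, hiff, hhalf, hrep⟩ :=
    W.dihedral_mod hu (by rw [hu2]; exact W.four.one_mem) huE huf
  set q := u⁻¹ * σ u with hq
  have hσu : σ u = u * q := by rw [hq, mul_inv_cancel_left]
  have hqT : q ∈ T := T.mul_mem (T.inv_mem hu) (W.inv u hu)
  -- `u` inverts `q`
  have huq : u * q * u⁻¹ = q⁻¹ := by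
    have h : σ u * σ u = 1 := by rw [← map_mul, hu2, map_one]
    rw [hσu] at h
    rw [hui]
    exact eq_inv_of_mul_eq_one_left (by rw [mul_assoc]; exact h)
  have hswap : ∀ i : ℤ, q ^ i * u = u * q ^ (-i) := by
    intro i
    have h2 : (u * q * u⁻¹) ^ (-i) = u * q ^ (-i) * u⁻¹ := conj_zpow
    rw [huq, inv_zpow', neg_neg] at h2
    rw [h2, inv_mul_cancel_right]
  -- `q` centralises the four-group
  have hzz : ∀ a : A, a * (f * f) * (f * f) = a := fun a => by rw [mul_assoc, W.hyp.z_sq, mul_one]
  have hsz : σ u * (f * f) * (σ u)⁻¹ = f * f := by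
    rw [W.z_comm _ (W.inv u hu), mul_inv_cancel_right]
  have huz : u * (f * f) * u⁻¹ = f * f := by rw [W.z_comm u hu, mul_inv_cancel_right]
  have hse : σ u * e * (σ u)⁻¹ = u * e * u⁻¹ := by
    rcases W.e_conj u hu with h | h
    · have h' := congrArg σ h
      rw [map_mul, map_mul, map_inv, W.σ_e, ← conj_mul, hsz] at h'
      rw [h]; exact mul_right_cancel h'
    · have h' := congrArg σ h
      rw [map_mul, map_mul, map_inv, W.σ_e, ← conj_mul, hsz, W.σ_ez] at h'
      rw [h]
      calc σ u * e * (σ u)⁻¹ = σ u * e * (σ u)⁻¹ * (f * f) * (f * f) := (hzz _).symm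
        _ = e * (f * f) := by rw [h']
  have hqe : q * e = e * q := by
    rw [← mul_inv_eq_iff_eq_mul]
    calc q * e * q⁻¹ = u⁻¹ * (σ u * e * (σ u)⁻¹) * u := by rw [hq]; group
      _ = e := by rw [hse]; group
  have hqa : ∀ (i : ℤ), ∀ a ∈ W.four, q ^ i * a = a * q ^ i := fun i a ha =>
    (Commute.zpow_left (W.commute_four hqT hqe ha : Commute q a) i).eq
  -- the order of `q`
  set v := q ^ (2 ^ (n - 1)) with hv
  have hv2 : v * v = f * f := by
    have h1 : v = f * (f⁻¹ * v) := by group
    calc v * v = f * ((f⁻¹ * v) * f) * (f⁻¹ * v) := by group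
      _ = f * f * ((f⁻¹ * v) * (f⁻¹ * v)) := by rw [← hfa _ hhalf]; group
      _ = f * f := by rw [W.four_sq hhalf, mul_one]
  have hqn : q ^ (2 ^ n) = f * f := by
    rw [← hv2, hv, ← pow_add, ← two_mul, ← pow_succ', Nat.sub_add_cancel hn]
  have hord : orderOf q = 2 ^ (n + 1) := by
    refine orderOf_eq_prime_pow ?_ ?_
    · rw [hqn]; exact W.hyp.z_ne_one
    · rw [pow_succ, pow_mul, hqn, pow_two]; exact W.hyp.z_sq
  have hqfour : ∀ i : ℤ, q ^ i ∈ W.four → q ^ i = 1 ∨ q ^ i = f * f := by
    intro i hi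
    obtain ⟨k, rfl⟩ := (hiff i).mp hi
    rw [zpow_mul, zpow_natCast, hqn]
    rcases Int.even_or_odd' k with ⟨j, rfl | rfl⟩
    · left; rw [zpow_mul, zpow_two, W.hyp.z_sq, one_zpow]
    · right; rw [zpow_add, zpow_mul, zpow_two, W.hyp.z_sq, one_zpow, one_mul, zpow_one]
  have hq2 : q * q ≠ 1 := by
    intro h
    have h' : orderOf q ∣ 2 := orderOf_dvd_of_pow_eq_one (by rw [pow_two, h])
    have := Nat.le_of_dvd (by norm_num) h'
    have h4 : 2 ^ 2 ≤ 2 ^ (n + 1) := Nat.pow_le_pow_right (by norm_num) (by omega)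
    omega
  have hsqrot : ∀ i : ℤ, q ^ i * q ^ i = 1 → q ^ i ∈ W.four := by
    intro i h
    rw [← zpow_add, ← orderOf_dvd_iff_zpow_eq_one, hord] at h
    refine (hiff i).mpr ?_
    push_cast at h ⊢
    rw [pow_succ', ← two_mul] at h
    exact (mul_dvd_mul_iff_left (two_ne_zero' ℤ)).mp h
  have hform : ∀ x ∈ T, ∃ i : ℤ, ∃ a ∈ W.four, x = q ^ i * a ∨ x = u * q ^ i * a := by
    intro x hx
    obtain ⟨i, h | h⟩ := hrep x hx
    · exact ⟨i, _, h, Or.inl (mul_inv_cancel_left _ x).symm⟩
    · exact ⟨i, _, h, Or.inr (mul_inv_cancel_left _ x).symm⟩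
  have hsq1 : ∀ (i : ℤ) (a : A), a ∈ W.four → q ^ i * a * (q ^ i * a) = q ^ i * q ^ i := by
    intro i a ha
    calc q ^ i * a * (q ^ i * a) = q ^ i * (a * q ^ i) * a := by group
      _ = q ^ i * (q ^ i * a) * a := by rw [hqa i a ha]
      _ = q ^ i * q ^ i * (a * a) := by group
      _ = q ^ i * q ^ i := by rw [W.four_sq ha, mul_one]
  have hsq2 : ∀ (i : ℤ) (a : A), a ∈ W.four → u * q ^ i * a * (u * q ^ i * a) = u * a * u⁻¹ * a := by
    intro i a ha
    have h1 : u * a * u⁻¹ ∈ W.four := W.conj_four hu ha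
    rw [hui] at h1 ⊢
    calc u * q ^ i * a * (u * q ^ i * a)
        = u * q ^ i * (u * u) * a * u * q ^ i * a := by rw [hu2]; group
      _ = u * (q ^ i * u) * (u * a * u) * q ^ i * a := by group
      _ = q ^ (-i) * ((u * a * u) * q ^ i) * a := by rw [hswap, ← mul_assoc u u, hu2]; group
      _ = q ^ (-i) * (q ^ i * (u * a * u)) * a := by rw [hqa i _ h1]
      _ = u * a * u * a := by group
  have hnotcomm : u * q ≠ q * u := fun h => hq2 (by
    rw [h, mul_inv_cancel_right] at huq
    nth_rw 2 [huq]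
    exact mul_inv_cancel q)
  rcases W.e_conj u hu with hue | hue
  · -- `u` centralises `e`: transfer
    have hue' : u * e = e * u := mul_inv_eq_iff_eq_mul.mp hue
    let U : Subgroup A :=
      { carrier := {x | ∃ i : ℤ, x = q ^ i ∨ x = u * q ^ i}
        one_mem' := ⟨0, Or.inl (zpow_zero q).symm⟩
        mul_mem' := by
          rintro a b ⟨i, rfl | rfl⟩ ⟨j, rfl | rfl⟩
          · exact ⟨i + j, Or.inl (zpow_add q i j).symm⟩
          · exact ⟨-i + j, Or.inr (by rw [← mul_assoc, hswap, mul_assoc, ← zpow_add])⟩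
          · exact ⟨i + j, Or.inr (by rw [mul_assoc, ← zpow_add])⟩
          · refine ⟨-i + j, Or.inl ?_⟩
            rw [mul_assoc, ← mul_assoc (q ^ i), hswap, mul_assoc u (q ^ (-i)), ← zpow_add, ← mul_assoc,
              hu2, one_mul]
        inv_mem' := by
          rintro a ⟨i, rfl | rfl⟩
          · exact ⟨-i, Or.inl (zpow_neg q i).symm⟩
          · exact ⟨i, Or.inr (by rw [mul_inv_rev, hui, ← zpow_neg, hswap, neg_neg])⟩ }
    have heU : e ∉ U := by
      rintro ⟨i, h | h⟩
      · rcases hqfour i (h ▸ W.e_mem_four) with h' | h'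
        · exact W.e_ne_one (h.trans h')
        · exact W.e_ne_z (h.trans h')
      · have h1 : u = e * q ^ (-i) := by rw [h, zpow_neg, mul_inv_cancel_right]
        have h2 : q ^ (-i) * q ^ (-i) = 1 := by
          rw [← hu2, h1]
          calc q ^ (-i) * q ^ (-i) = e * e * (q ^ (-i) * q ^ (-i)) := by rw [W.e_sq, one_mul]
            _ = e * (e * q ^ (-i)) * q ^ (-i) := by group
            _ = e * (q ^ (-i) * e) * q ^ (-i) := by rw [hqa (-i) e W.e_mem_four]
            _ = _ := by group
        exact huE (h1 ▸ W.four.mul_mem W.e_mem_four (hsqrot _ h2))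
    have hce : ∀ x ∈ T, x * e = e * x := by
      intro x hx
      obtain ⟨i, a, ha, rfl | rfl⟩ := hform x hx
      · calc q ^ i * a * e = q ^ i * (e * a) := by rw [mul_assoc, W.four_comm ha W.e_mem_four]
          _ = e * (q ^ i * a) := by rw [← mul_assoc, hqa i e W.e_mem_four, mul_assoc]
      · calc u * q ^ i * a * e = u * q ^ i * (e * a) := by
              rw [mul_assoc, W.four_comm ha W.e_mem_four]
          _ = u * (q ^ i * e) * a := by group
          _ = u * e * q ^ i * a := by rw [hqa i e W.e_mem_four]; group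
          _ = e * (u * q ^ i * a) := by rw [hue']; group
    have hUidx : (U.subgroupOf T).index = 2 := by
      rw [Subgroup.index_eq_two_iff]
      refine ⟨⟨e, W.e_mem⟩, fun x => ?_⟩
      simp only [Subgroup.mem_subgroupOf, Subgroup.coe_mul]
      have key : (x : A) * e ∈ U ∨ (x : A) ∈ U := by
        have hzU : f * f ∈ U := ⟨((2 ^ n : ℕ) : ℤ), Or.inl (by rw [zpow_natCast, hqn])⟩
        obtain ⟨i, a, ha, h | h⟩ := hform x x.2 <;> rw [h]
        · have hqU : q ^ i ∈ U := ⟨i, Or.inl rfl⟩
          rcases ha with rfl | rfl | rfl | rfl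
          · exact Or.inr (by rwa [mul_one])
          · exact Or.inr (U.mul_mem hqU hzU)
          · exact Or.inl (by rwa [mul_assoc, W.e_sq, mul_one])
          · refine Or.inl ?_
            rw [mul_assoc, mul_assoc e, ← W.ez, ← mul_assoc e e, W.e_sq, one_mul]
            exact U.mul_mem hqU hzU
        · have hqU : u * q ^ i ∈ U := ⟨i, Or.inr rfl⟩
          rcases ha with rfl | rfl | rfl | rfl
          · exact Or.inr (by rwa [mul_one])
          · exact Or.inr (U.mul_mem hqU hzU)
          · exact Or.inl (by rwa [mul_assoc, W.e_sq, mul_one])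
          · refine Or.inl ?_
            rw [mul_assoc, mul_assoc e, ← W.ez, ← mul_assoc e e, W.e_sq, one_mul]
            exact U.mul_mem hqU hzU
      rcases key with h | h
      · exact Or.inl ⟨h, fun h' => heU ((U.mul_mem_cancel_left h').mp h)⟩
      · exact Or.inr ⟨h, fun h' => heU ((U.mul_mem_cancel_left h).mp h')⟩
    have hcenE : ∀ s ∈ T, s * s = 1 → (∀ x ∈ T, x * s = s * x) → s ∈ W.four := by
      intro s hs hs2 hsc
      obtain ⟨i, a, ha, rfl | rfl⟩ := hform s hs
      · rw [hsq1 i a ha] at hs2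
        exact W.four.mul_mem (hsqrot i hs2) ha
      · exfalso
        have h := hsc q hqT
        have hqa' : a * q = q * a := by simpa using (hqa 1 a ha).symm
        apply hnotcomm
        apply mul_right_cancel (b := q ^ i * a)
        calc u * q * (q ^ i * a) = u * q ^ i * (q * a) := by group
          _ = u * q ^ i * a * q := by rw [← hqa']; group
          _ = q * u * (q ^ i * a) := by rw [← h]; group
    have hrotsq : ∀ x ∈ T, ∃ j : ℤ, x * x = q ^ j := by
      intro x hx
      obtain ⟨i, a, ha, rfl | rfl⟩ := hform x hx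
      · exact ⟨i + i, by rw [hsq1 i a ha, zpow_add]⟩
      · refine ⟨0, ?_⟩
        rw [hsq2 i a ha, W.commute_four hu hue' ha, mul_inv_cancel_right, W.four_sq ha, zpow_zero]
    have hN : ∀ g ∈ Subgroup.normalizer (T : Set A), g * e * g⁻¹ = e := by
      have hmemN : ∀ g ∈ Subgroup.normalizer (T : Set A), ∀ x ∈ T, g * x * g⁻¹ ∈ T := fun g hg x hx =>
        ((Subgroup.mem_normalizer_iff.mp hg) x).mp hx
      have hcent : ∀ g ∈ Subgroup.normalizer (T : Set A), ∀ a ∈ W.four,
          g * a * g⁻¹ ∈ W.four := by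
        intro g hg a ha
        refine hcenE _ (hmemN g hg a (W.four_le ha)) ?_ fun x hx => ?_
        · rw [conj_mul, W.four_sq ha, mul_one, mul_inv_cancel]
        · have hx' := hmemN g⁻¹ (Subgroup.inv_mem _ hg) x hx
          have hxa : g⁻¹ * x * g⁻¹⁻¹ * a = a * (g⁻¹ * x * g⁻¹⁻¹) :=
            W.commute_four hx' (hce _ hx') ha
          calc x * (g * a * g⁻¹) = g * (g⁻¹ * x * g⁻¹⁻¹ * a) * g⁻¹ := by group
            _ = g * a * g⁻¹ * x := by rw [hxa]; group
      have hz : ∀ g ∈ Subgroup.normalizer (T : Set A), g * (f * f) * g⁻¹ = f * f := by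
        intro g hg
        have h4 := hcent g hg _ W.z_mem_four
        obtain ⟨j, hj⟩ := hrotsq _ (hmemN g hg f W.f_mem)
        rw [conj_mul] at hj
        rw [hj] at h4 ⊢
        exact (hqfour j h4).resolve_left fun h => W.hyp.z_ne_one (conj_eq_one_iff.mp (hj.trans h))
      intro g hg
      rcases hcent g hg e W.e_mem_four with h | h | h | h
      · exact absurd (conj_eq_one_iff.mp h) W.e_ne_one
      · exfalso
        rw [← hz g hg] at h
        exact W.e_ne_z (mul_left_cancel (mul_right_cancel h))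
      · exact h
      · exfalso
        have h2 : g * (e * (f * f)) * g⁻¹ = e := by rw [← conj_mul, h, hz g hg, hzz]
        obtain ⟨m, hm, k, hk⟩ := exists_twoPart_pow g
        have hgm : g ^ m ∈ T :=
          Transfer.mem_sylow_of_pElement S (Subgroup.pow_mem _ hg m) (k := k) (dvd_of_eq hk)
        have h3 := conj_odd_pow h h2 hm
        rw [hce _ hgm, mul_inv_cancel_right] at h3
        exact W.ez_ne h3.symm
    obtain ⟨H, hH⟩ := TransferTwo.exists_index_two S W.e_mem W.e_sq hce hN (U.subgroupOf T) hUidx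
      (fun h => heU h)
    exact not_index_two hperf hH
  · -- `u` moves `e`: Thompson transfer
    have hue' : u * e * u = e * (f * f) := by rw [hui] at hue; exact hue
    set w := v * e with hw
    have hvT : v ∈ T := T.pow_mem hqT _
    have hwT : w ∈ T := T.mul_mem hvT W.e_mem
    have hve : v * e = e * v := by
      have := hqa ((2 ^ (n - 1) : ℕ) : ℤ) e W.e_mem_four
      rwa [zpow_natCast] at this
    have hw2 : w * w = f * f := by
      calc w * w = v * (e * v) * e := by rw [hw]; group
        _ = v * v * (e * e) := by rw [← hve]; group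
        _ = f * f := by rw [hv2, W.e_sq, mul_one]
    have huv : u * v * u = v * (f * f) := by
      have h1 : v⁻¹ = v * (f * f) := inv_eq_of_mul_eq_one_right (by
        rw [← mul_assoc, hv2, W.hyp.z_sq])
      have h2 : (u * q * u⁻¹) ^ (2 ^ (n - 1)) = u * v * u⁻¹ := conj_pow
      rw [huq, inv_pow, ← hv, h1, hui] at h2
      exact h2.symm
    have huw : u * w = w * u := by
      have h : u * w * u = w := by
        calc u * w * u = u * v * (u * u) * e * u := by rw [hu2, hw]; group
          _ = (u * v * u) * (u * e * u) := by group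
          _ = v * ((f * f) * e) * (f * f) := by rw [huv, hue']; group
          _ = v * (e * (f * f) * (f * f)) := by rw [← W.ez]; group
          _ = w := by rw [hzz]
      calc u * w = u * w * (u * u) := by rw [hu2, mul_one]
        _ = u * w * u * u := by group
        _ = w * u := by rw [h]
    have hwq : ∀ i : ℤ, q ^ i * w = w * q ^ i := by
      intro i
      have h1 : q ^ i * v = v * q ^ i := (Commute.pow_right (Commute.zpow_self q i) _).eq
      calc q ^ i * w = q ^ i * v * e := by rw [hw]; group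
        _ = v * (q ^ i * e) := by rw [h1]; group
        _ = w * q ^ i := by rw [hqa i e W.e_mem_four, hw]; group
    have hzpow : f * f = q ^ (((2 ^ n : ℕ)) : ℤ) := by rw [zpow_natCast, hqn]
    let U : Subgroup A :=
      { carrier := {x | ∃ i : ℤ, x = q ^ i ∨ x = u * w * q ^ i}
        one_mem' := ⟨0, Or.inl (zpow_zero q).symm⟩
        mul_mem' := by
          rintro a b ⟨i, rfl | rfl⟩ ⟨j, rfl | rfl⟩
          · exact ⟨i + j, Or.inl (zpow_add q i j).symm⟩
          · refine ⟨-i + j, Or.inr ?_⟩
            calc q ^ i * (u * w * q ^ j) = q ^ i * u * w * q ^ j := by group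
              _ = u * (q ^ (-i) * w) * q ^ j := by rw [hswap]; group
              _ = _ := by rw [hwq]; group
          · exact ⟨i + j, Or.inr (by rw [mul_assoc, ← zpow_add])⟩
          · refine ⟨((2 ^ n : ℕ) : ℤ) + (-i + j), Or.inl ?_⟩
            calc u * w * q ^ i * (u * w * q ^ j) = u * w * (q ^ i * u) * w * q ^ j := by group
              _ = u * (w * u) * (q ^ (-i) * w) * q ^ j := by rw [hswap]; group
              _ = u * u * (w * w) * q ^ (-i) * q ^ j := by rw [← huw, hwq]; group
              _ = _ := by rw [hu2, hw2, hzpow, one_mul, ← zpow_add, ← zpow_add, add_assoc]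
        inv_mem' := by
          rintro a ⟨i, rfl | rfl⟩
          · exact ⟨-i, Or.inl (zpow_neg q i).symm⟩
          · refine ⟨i + ((2 ^ n : ℕ) : ℤ), Or.inr (inv_eq_of_mul_eq_one_right ?_)⟩
            rw [zpow_add, ← hzpow]
            calc u * w * q ^ i * (u * w * (q ^ i * (f * f)))
                = u * w * (q ^ i * u) * w * q ^ i * (f * f) := by group
              _ = u * (w * u) * (q ^ (-i) * w) * q ^ i * (f * f) := by rw [hswap]; group
              _ = u * u * (w * w) * (f * f) := by rw [← huw, hwq]; group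
              _ = 1 := by rw [hu2, hw2, one_mul, W.hyp.z_sq] }
    have huU : u ∉ U := by
      rintro ⟨i, h | h⟩
      · exact hnotcomm (by rw [h]; exact (Commute.zpow_self q i).eq)
      · have h1 : w * q ^ i = 1 := by
          rw [mul_assoc] at h; exact mul_eq_left.mp h.symm
        have h2 : e = v⁻¹ * w := by rw [hw, inv_mul_cancel_left]
        have h3 : e = q ^ (-((2 ^ (n - 1) : ℕ) : ℤ) + -i) := by
          rw [h2, eq_inv_of_mul_eq_one_left h1, zpow_add, zpow_neg, zpow_neg, zpow_natCast, ← hv]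
        rcases hqfour _ (Or.inr (Or.inr (Or.inl h3.symm))) with h' | h'
        · exact W.e_ne_one (h3.trans h')
        · exact W.e_ne_z (h3.trans h')
    have hfourform : ∀ a ∈ W.four, ∃ k : ℤ, a = q ^ k ∨ a = w * q ^ k := by
      rintro a (rfl | rfl | rfl | rfl)
      · exact ⟨0, Or.inl (zpow_zero q).symm⟩
      · exact ⟨_, Or.inl hzpow⟩
      · refine ⟨-((2 ^ (n - 1) : ℕ) : ℤ), Or.inr ?_⟩
        rw [zpow_neg, zpow_natCast, ← hv, hw, hve, mul_inv_cancel_right]
      · refine ⟨-((2 ^ (n - 1) : ℕ) : ℤ) + ((2 ^ n : ℕ) : ℤ), Or.inr ?_⟩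
        rw [zpow_add, ← hzpow, zpow_neg, zpow_natCast, ← hv, hw, hve, mul_assoc e v, mul_inv_cancel_left]
    have hUle : U ≤ T := by
      rintro x ⟨i, rfl | rfl⟩
      · exact T.zpow_mem hqT i
      · exact T.mul_mem (T.mul_mem hu hwT) (T.zpow_mem hqT i)
    have hUidx : U.relIndex T = 2 := by
      show (U.subgroupOf T).index = 2
      rw [Subgroup.index_eq_two_iff]
      refine ⟨⟨u, hu⟩, fun x => ?_⟩
      simp only [Subgroup.mem_subgroupOf, Subgroup.coe_mul]
      have key : (x : A) * u ∈ U ∨ (x : A) ∈ U := by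
        obtain ⟨i, a, ha, h | h⟩ := hform x x.2 <;> rw [h] <;> obtain ⟨k, rfl | rfl⟩ := hfourform a ha
        · exact Or.inr ⟨i + k, Or.inl (zpow_add q i k).symm⟩
        · refine Or.inl ⟨-(i + k), Or.inr ?_⟩
          calc q ^ i * (w * q ^ k) * u = q ^ i * w * (q ^ k * u) := by group
            _ = w * (q ^ i * u) * q ^ (-k) := by rw [hswap k, hwq]; group
            _ = w * u * (q ^ (-i) * q ^ (-k)) := by rw [hswap]; group
            _ = _ := by rw [← huw, ← zpow_add, neg_add]
        · refine Or.inl ⟨-(i + k), Or.inl ?_⟩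
          rw [mul_assoc u, ← zpow_add, mul_assoc, hswap, ← mul_assoc, hu2, one_mul]
        · refine Or.inr ⟨i + k, Or.inr ?_⟩
          calc u * q ^ i * (w * q ^ k) = u * (q ^ i * w) * q ^ k := by group
            _ = _ := by rw [hwq, zpow_add]; group
      rcases key with h | h
      · exact Or.inl ⟨h, fun h' => huU ((U.mul_mem_cancel_left h').mp h)⟩
      · exact Or.inr ⟨h, fun h' => huU ((U.mul_mem_cancel_left h).mp h')⟩
    obtain ⟨g, hg⟩ : ∃ g : A, g * u * g⁻¹ ∈ U :=
      (Transfer.thompsonTransferLemma S U hUle hUidx u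
        (orderOf_eq_prime (by rw [pow_two]; exact hu2) (fun h => huE (h ▸ W.four.one_mem))) hu
        huU).resolve_left fun ⟨_, _, h2, _⟩ => not_index_two hperf h2
    have hgz : g * u * g⁻¹ = f * f := by
      have hg2 : g * u * g⁻¹ * (g * u * g⁻¹) = 1 := by rw [conj_mul, hu2, mul_one, mul_inv_cancel]
      have hg1 : g * u * g⁻¹ ≠ 1 := fun h => huE (conj_eq_one_iff.mp h ▸ W.four.one_mem)
      obtain ⟨i, h | h⟩ := hg <;> rw [h] at hg1 hg2
      · rw [h]
        exact (hqfour i (hsqrot i hg2)).resolve_left hg1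
      · exfalso
        apply W.hyp.z_ne_one
        calc f * f = u * u * (w * w) := by rw [hu2, hw2, one_mul]
          _ = u * (w * u) * (q ^ (-i) * w) * q ^ i := by rw [← huw, hwq]; group
          _ = u * w * (q ^ i * u) * w * q ^ i := by rw [hswap]; group
          _ = 1 := by rw [← hg2]; group
    have hTC : T ≤ Subgroup.centralizer ({f * f} : Set A) := fun x hx =>
      Subgroup.mem_centralizer_singleton_iff.mpr (W.z_comm x hx)
    have hw4 : (g * w * g⁻¹) ^ 4 = 1 := by
      rw [conj_pow, show w ^ 4 = (w * w) * (w * w) by simp only [pow_succ, pow_zero, one_mul, mul_assoc], hw2, W.hyp.z_sq, mul_one, mul_inv_cancel]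
    obtain ⟨c, hc, hcw⟩ := TwoRankTwo23.exists_conj_mem_sylow (S := S) hTC
      (Q := Subgroup.zpowers (g * w * g⁻¹))
      (IsPGroup.of_card_dvd_pow (n := 2) (by rw [Nat.card_zpowers]; exact orderOf_dvd_of_pow_eq_one hw4))
      (Subgroup.zpowers_le.mpr (Subgroup.mem_centralizer_singleton_iff.mpr (by
        rw [← hgz, conj_mul, ← huw, ← conj_mul])))
    set h := c * g with hh
    have hhu : h * u * h⁻¹ = f * f := by
      calc h * u * h⁻¹ = c * (g * u * g⁻¹) * c⁻¹ := by rw [hh]; group
        _ = f * f := by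
          rw [hgz, Subgroup.mem_centralizer_singleton_iff.mp hc, mul_inv_cancel_right]
    have hhw : h * w * h⁻¹ ∈ T := by
      rw [hh, show c * g * w * (c * g)⁻¹ = c * (g * w * g⁻¹) * c⁻¹ by group]
      exact hcw _ (Subgroup.mem_zpowers _)
    have hhz : h * (f * f) * h⁻¹ = f * f := by
      obtain ⟨i, a, ha, hia | hia⟩ := hform _ hhw
      · have h1 : q ^ i * q ^ i = h * (f * f) * h⁻¹ := by
          rw [← hsq1 i a ha, ← hia, conj_mul, hw2]
        have h2 : q ^ (i + i) * q ^ (i + i) = 1 := by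
          rw [zpow_add, h1, conj_mul, W.hyp.z_sq, mul_one, mul_inv_cancel]
        rw [← h1, ← zpow_add]
        refine (hqfour _ (hsqrot _ h2)).resolve_left fun h3 => W.hyp.z_ne_one ?_
        rw [zpow_add, h1] at h3
        exact conj_eq_one_iff.mp h3
      · have h1 : u * a * u⁻¹ * a = h * (f * f) * h⁻¹ := by
          rw [← hsq2 i a ha, ← hia, conj_mul, hw2]
        rw [← h1]
        rcases ha with rfl | rfl | rfl | rfl
        · exfalso
          rw [mul_one, mul_one, mul_inv_cancel] at h1
          exact W.hyp.z_ne_one (conj_eq_one_iff.mp h1.symm)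
        · exfalso
          rw [huz, W.hyp.z_sq] at h1
          exact W.hyp.z_ne_one (conj_eq_one_iff.mp h1.symm)
        · rw [hue, W.ez, mul_assoc, W.e_sq, mul_one]
        · rw [← conj_mul, hue, huz, hzz, ← mul_assoc, W.e_sq, one_mul]
    rw [← hhz] at hhu
    exact huE (mul_left_cancel (mul_right_cancel hhu) ▸ W.z_mem_four)

end CfsgLib.CyclicFourFix23
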