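import Cfsg.Agent.CyclicFourFix23.Tools
import Cfsg.Agent.Transfer.ThompsonTransfer

/-!
The fixed element of order four centralises an invariant normal four-group of its Sylow subgroup.
-/

set_option autoImplicit false
set_option linter.style.haveILetI false

open MulAction Pointwise

namespace CfsgLib.CyclicFourFix23

variable {A : Type*} [Group A] {σ : MulAut A} {f e : A}

theorem NormalFour.commute_f_e [Finite A] (hperf : commutator A = ⊤) (S : Sylow 2 A)
    (W : NormalFour σ f (S : Subgroup A) e) : f * e = e * f := by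
  classical
  haveI : Fact (Nat.Prime 2) := ⟨Nat.prime_two⟩
  by_contra hne
  set T := (S : Subgroup A) with hT
  have hfe : f * e * f⁻¹ = e * (f * f) :=
    W.e_conj_f.resolve_left fun h => hne (mul_inv_eq_iff_eq_mul.mp h)
  have hzf : f * (f * f) = f * f * f := (mul_assoc f f f).symm
  have hzf' : f⁻¹ * (f * f) * f = f * f := by group
  set M := T ⊓ Subgroup.centralizer ({e} : Set A) with hM
  have hmemM : ∀ x, x ∈ M ↔ x ∈ T ∧ x * e = e * x := fun x => by
    rw [hM, Subgroup.mem_inf, Subgroup.mem_centralizer_singleton_iff]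
  have hEM : W.four ≤ M := fun a ha => (hmemM a).mpr ⟨W.four_le ha, W.four_comm ha W.e_mem_four⟩
  have hσM : ∀ x ∈ M, σ x ∈ M := by
    intro x hx
    obtain ⟨hxT, hxe⟩ := (hmemM x).mp hx
    refine (hmemM _).mpr ⟨W.inv x hxT, ?_⟩
    have := congrArg σ (W.commute_four hxT hxe (W.four.mul_mem W.e_mem_four W.z_mem_four))
    rwa [map_mul, map_mul σ (e * (f * f)), W.σ_ez] at this
  have hfM : f ∉ M := fun h => hne ((hmemM f).mp h).2
  have hMle : M ≤ W.four := by
    by_contra hle
    obtain ⟨y, hyM, hyE, hy⟩ := exists_fixed_coset W.hyp.sq (W.isP.to_le inf_le_left)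
      (lt_of_le_of_ne hEM fun h => hle h.ge) (fun _ => W.σ_four) hσM
    have h' : f⁻¹ * y ∈ W.four := (W.coset_fixed ((hmemM y).mp hyM).1 hy).resolve_left hyE
    have := M.mul_mem hyM (M.inv_mem (hEM h'))
    rw [mul_inv_rev, inv_inv, mul_inv_cancel_left] at this
    exact hfM this
  have hcos : ∀ x ∈ T, x ∈ W.four ∨ f⁻¹ * x ∈ W.four := by
    intro x hx
    rcases W.e_conj x hx with h | h
    · exact Or.inl (hMle ((hmemM x).mpr ⟨hx, mul_inv_eq_iff_eq_mul.mp h⟩))
    · refine Or.inr (hMle ((hmemM _).mpr ⟨T.mul_mem (T.inv_mem W.f_mem) hx, ?_⟩))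
      rw [← mul_inv_eq_iff_eq_mul]
      calc f⁻¹ * x * e * (f⁻¹ * x)⁻¹ = f⁻¹ * (x * e * x⁻¹) * f := by group
        _ = f⁻¹ * (e * (f * f)) * f := by rw [h]
        _ = f⁻¹ * (f * e * f⁻¹) * f := by rw [hfe]
        _ = e := by group
  have hidxE : (W.four.subgroupOf T).index = 2 := by
    rw [Subgroup.index_eq_two_iff]
    refine ⟨⟨f⁻¹, T.inv_mem W.f_mem⟩, fun x => ?_⟩
    simp only [Subgroup.mem_subgroupOf, Subgroup.coe_mul]
    rcases hcos x x.2 with h | h
    · refine Or.inr ⟨h, fun h' => W.f_notMem ?_⟩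
      simpa using W.four.inv_mem ((W.four.mul_mem_cancel_left h).mp h')
    · have h1 : (x : A) * f⁻¹ ∈ W.four := by
        have := W.conj_four W.f_mem h
        simpa [mul_assoc] using this
      refine Or.inl ⟨h1, fun h' => W.f_notMem ?_⟩
      simpa using W.four.inv_mem ((W.four.mul_mem_cancel_left h').mp h1)
  have hT8 : Nat.card T = 8 := by
    rw [← (W.four.subgroupOf T).card_mul_index, hidxE,
      Nat.card_congr (Subgroup.subgroupOfEquivOfLe W.four_le).toEquiv, W.card_four]
  -- Thompson transfer on `⟨f⟩`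
  have hQ : Subgroup.zpowers f ≤ T := Subgroup.zpowers_le.mpr W.f_mem
  have hQi : (Subgroup.zpowers f).relIndex T = 2 := by
    have := ((Subgroup.zpowers f).subgroupOf T).card_mul_index
    rw [Nat.card_congr (Subgroup.subgroupOfEquivOfLe hQ).toEquiv, Nat.card_zpowers, W.hyp.f_ord, hT8]
      at this
    show ((Subgroup.zpowers f).subgroupOf T).index = 2
    omega
  have heQ : e ∉ Subgroup.zpowers f := fun h => by
    obtain ⟨k, hk⟩ := Subgroup.mem_zpowers_iff.mp h
    have : σ e = e := by rw [← hk, map_zpow, W.hyp.f_fix]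
    exact W.ez_ne (W.σ_e ▸ this)
  obtain ⟨g, hg⟩ : ∃ g : A, g * e * g⁻¹ ∈ Subgroup.zpowers f :=
    (Transfer.thompsonTransferLemma S _ hQ hQi e
      (orderOf_eq_prime (by rw [pow_two]; exact W.e_sq) W.e_ne_one) W.e_mem heQ).resolve_left
      fun ⟨_, _, h2, _⟩ => not_index_two hperf h2
  have hgz : g * e * g⁻¹ = f * f := by
    obtain ⟨k, hk⟩ := Subgroup.mem_zpowers_iff.mp hg
    have hσ : σ (g * e * g⁻¹) = g * e * g⁻¹ := by rw [← hk, map_zpow, W.hyp.f_fix]
    refine (W.hyp.fixed_involution W.isP W.f_mem (hQ hg) hσ ?_).resolve_left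
      fun h => W.e_ne_one (conj_eq_one_iff.mp h)
    rw [conj_mul, W.e_sq, mul_one, mul_inv_cancel]
  -- the twisted automorphism on `C(e)`
  set C := Subgroup.centralizer ({e} : Set A) with hC
  let τ : MulAut A := σ.trans (MulAut.conj f)
  have hτ : ∀ x, τ x = f * σ x * f⁻¹ := fun x => rfl
  have hτe : τ e = e := by
    rw [hτ, W.σ_e, ← conj_mul, hfe, ← hzf', show f * (f⁻¹ * (f * f) * f) * f⁻¹ = f * f by group, hzf',
      mul_assoc, W.hyp.z_sq, mul_one]
  have hτz : τ (f * f) = f * f := by rw [hτ, W.hyp.z_fix]; group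
  have hτfour : ∀ a ∈ W.four, τ a = a := by
    intro a ha
    rcases ha with rfl | rfl | rfl | rfl
    exacts [map_one τ, hτz, hτe, by rw [map_mul, hτe, hτz]]
  have hτC : ∀ x : A, x ∈ C → τ x ∈ C := fun x hx => by
    rw [hC, Subgroup.mem_centralizer_singleton_iff] at hx ⊢
    rw [← hτe, ← map_mul, ← map_mul, hx]
  have hτC' : ∀ x : A, x ∈ C → τ.symm x ∈ C := fun x hx => by
    rw [hC, Subgroup.mem_centralizer_singleton_iff] at hx ⊢
    apply τ.injective
    rw [map_mul, map_mul, MulEquiv.apply_symm_apply, hτe]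
    exact hx
  let τC : MulAut C :=
    { toFun := fun x => ⟨τ x, hτC _ x.2⟩
      invFun := fun x => ⟨τ.symm x, hτC' _ x.2⟩
      left_inv := fun x => Subtype.ext (τ.symm_apply_apply _)
      right_inv := fun x => Subtype.ext (τ.apply_symm_apply _)
      map_mul' := fun x y => Subtype.ext (map_mul τ (x : A) y) }
  have hzC : f * f ∈ C := by
    rw [hC, Subgroup.mem_centralizer_singleton_iff]; exact W.ez.symm
  have hEC : W.four ≤ C := fun a ha => by
    rw [hC, Subgroup.mem_centralizer_singleton_iff]; exact W.four_comm ha W.e_mem_four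
  have hτ2 : ∀ x, τ (τ x) = f * f * x * (f * f)⁻¹ := fun x => by
    rw [hτ (τ x), hτ x, map_mul, map_mul, map_inv, W.hyp.f_fix, W.hyp.sq]; group
  obtain ⟨R, hER, hRτ⟩ := exists_fixed_sylow τC
    ((IsPGroup.of_card (n := 2) (W.card_four)).comap_of_injective C.subtype C.subtype_injective)
    (fun x hx => by
      show τ (x : A) ∈ W.four
      rw [show τ (x : A) = x from hτfour _ hx]; exact hx)
    (fun S' hS' => by
      have hsq : τC * τC = MulAut.conj (⟨f * f, hzC⟩ : C) :=
        MulEquiv.ext fun x => Subtype.ext (hτ2 x)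
      rw [smul_smul, hsq]
      show (⟨f * f, hzC⟩ : C) • S' = S'
      rw [Sylow.smul_eq_iff_mem_normalizer]
      exact Subgroup.le_normalizer (hS' W.z_mem_four))
  -- `C(e)` has a Sylow subgroup of order eight
  have hconjC : T.map (MulAut.conj g⁻¹).toMonoidHom ≤ C := by
    rintro _ ⟨t, ht, rfl⟩
    rw [hC, Subgroup.mem_centralizer_singleton_iff]
    show g⁻¹ * t * g⁻¹⁻¹ * e = e * (g⁻¹ * t * g⁻¹⁻¹)
    have he : e = g⁻¹ * (f * f) * g := by rw [← hgz]; group
    rw [he]
    calc g⁻¹ * t * g⁻¹⁻¹ * (g⁻¹ * (f * f) * g) = g⁻¹ * (t * (f * f)) * g := by group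
      _ = g⁻¹ * (f * f * t) * g := by rw [W.z_comm t ht]
      _ = _ := by group
  set T' := (R : Subgroup C).map C.subtype with hT'
  have hT'P : IsPGroup 2 T' := R.isPGroup'.map _
  have h8 : 8 ≤ Nat.card T' := by
    have hQ' : IsPGroup 2 ((T.map (MulAut.conj g⁻¹).toMonoidHom).subgroupOf C) :=
      ((W.isP.map _).comap_of_injective C.subtype C.subtype_injective)
    obtain ⟨R', hR'⟩ := hQ'.exists_le_sylow
    have h1 := Subgroup.card_le_of_le hR'
    rw [Nat.card_congr (Subgroup.subgroupOfEquivOfLe hconjC).toEquiv,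
      Subgroup.card_map_of_injective (MulAut.conj g⁻¹).injective, hT8] at h1
    rw [hT', Subgroup.card_map_of_injective C.subtype_injective]
    rw [R.card_eq_multiplicity, ← R'.card_eq_multiplicity]
    exact h1
  obtain ⟨S', hS'⟩ := hT'P.exists_le_sylow
  have hS'8 : Nat.card S' = 8 := by rw [S'.card_eq_multiplicity, ← S.card_eq_multiplicity]; exact hT8
  have heqT' : T' = (S' : Subgroup A) :=
    Subgroup.eq_of_le_of_card_ge hS' (hS'8.le.trans h8)
  have hET' : W.four ≤ T' := fun a ha => ⟨⟨a, hEC ha⟩, hER ha, rfl⟩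
  have hτT' : ∀ x ∈ T', τ x ∈ T' := by
    rintro _ ⟨x, hx, rfl⟩
    exact ⟨_, hRτ x hx, rfl⟩
  have hidx' : (W.four.subgroupOf T').index = 2 := by
    have := (W.four.subgroupOf T').card_mul_index
    rw [Nat.card_congr (Subgroup.subgroupOfEquivOfLe hET').toEquiv, W.card_four, heqT', hS'8] at this
    rw [heqT']
    omega
  have hcentral : ∀ x ∈ T', ∀ a ∈ W.four, x * a = a * x := by
    intro x hx a ha
    have hxe : x * e = e * x := by
      obtain ⟨y, -, rfl⟩ := hx
      exact Subgroup.mem_centralizer_singleton_iff.mp y.2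
    have hxz : x * (f * f) = f * f * x := by
      by_cases hxE : x ∈ W.four
      · exact W.four_comm hxE W.z_mem_four
      have hτx : τ x ∉ W.four := fun h => hxE (by
        have := τ.injective (hτfour _ h)
        exact this ▸ h)
      have hd : x⁻¹ * τ x ∈ W.four := by
        have := (Subgroup.mul_mem_iff_of_index_two hidx' (a := (⟨x, hx⟩ : T')⁻¹) (b := ⟨τ x, hτT' x hx⟩)).mpr
          (by simp [Subgroup.mem_subgroupOf, hxE, hτx])
        simpa [Subgroup.mem_subgroupOf] using this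
      obtain ⟨d, hd', h1⟩ : ∃ d ∈ W.four, τ x = x * d := ⟨_, hd, (mul_inv_cancel_left x (τ x)).symm⟩
      have h2 : τ (τ x) = x := by
        rw [h1, map_mul, hτfour d hd', h1, mul_assoc, W.four_sq hd', mul_one]
      rw [hτ2] at h2
      exact (mul_inv_eq_iff_eq_mul.mp h2).symm
    rcases ha with rfl | rfl | rfl | rfl
    · simp
    · exact hxz
    · exact hxe
    · rw [← mul_assoc, hxe, mul_assoc, hxz, ← mul_assoc]
  have habel : ∀ x ∈ T', ∀ y ∈ T', x * y = y * x := by
    intro x hx y hy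
    by_cases hxE : x ∈ W.four
    · exact (hcentral y hy x hxE).symm
    by_cases hyE : y ∈ W.four
    · exact hcentral x hx y hyE
    have hd : x⁻¹ * y ∈ W.four := by
      have := (Subgroup.mul_mem_iff_of_index_two hidx' (a := (⟨x, hx⟩ : T')⁻¹) (b := ⟨y, hy⟩)).mpr
        (by simp [Subgroup.mem_subgroupOf, hxE, hyE])
      simpa [Subgroup.mem_subgroupOf] using this
    calc x * y = x * (x * (x⁻¹ * y)) := by group
      _ = x * ((x⁻¹ * y) * x) := by rw [hcentral x hx _ hd]
      _ = y * x := by group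
  obtain ⟨k, hk⟩ := MulAction.exists_smul_eq A S S'
  have hmem : ∀ x ∈ T, k * x * k⁻¹ ∈ T' := fun x hx => by
    rw [heqT', ← hk]
    exact Subgroup.smul_mem_pointwise_smul _ (MulAut.conj k) _ hx
  refine hne ?_
  have := habel _ (hmem f W.f_mem) _ (hmem e W.e_mem)
  rwa [conj_mul, conj_mul, mul_left_inj, mul_right_inj] at this

end CfsgLib.CyclicFourFix23
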