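import Cfsg.Agent.CyclicFourFix23.Basic

/-!
Invariant normal four-groups and the dihedral structure of `T / E`.
-/

set_option autoImplicit false
set_option linter.style.haveILetI false

namespace CfsgLib.CyclicFourFix23

/-- A finite 2-group with an involutive automorphism fixing exactly `1, c` and an involution `u` outside
`{1, c}` is generated by `u` and `u * σ u` as a dihedral group. -/
theorem dihedral_of_fixed_two {Q : Type*} [Group Q] [Finite Q] (hQ : IsPGroup 2 Q) (σ : MulAut Q)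
    (hσ : ∀ a, σ (σ a) = a) {c : Q} (_hc1 : c ≠ 1) (hfix : ∀ x, σ x = x → x = 1 ∨ x = c) {u : Q}
    (hu : u * u = 1) (hu1 : u ≠ 1) (huc : u ≠ c) :
    ∃ n : ℕ, 1 ≤ n ∧ σ (u * σ u) = (u * σ u)⁻¹ ∧ u * (u * σ u) * u = (u * σ u)⁻¹ ∧
      orderOf (u * σ u) = 2 ^ n ∧ (u * σ u) ^ (2 ^ (n - 1)) = c ∧
      ∀ x, ∃ i : ℤ, x = (u * σ u) ^ i ∨ x = u * (u * σ u) ^ i := by
  haveI : Fact (Nat.Prime 2) := ⟨Nat.prime_two⟩
  have hui : u⁻¹ = u := inv_eq_of_mul_eq_one_right hu
  have hσu : σ u * σ u = 1 := by rw [← map_mul, hu, map_one]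
  have hσui : (σ u)⁻¹ = σ u := inv_eq_of_mul_eq_one_right hσu
  set q := u * σ u with hq
  have hσq : σ q = q⁻¹ := by rw [hq, map_mul, hσ, mul_inv_rev, hui, hσui]
  have huq : u * q * u = q⁻¹ := by
    rw [hq, mul_inv_rev, hui, hσui, ← mul_assoc, hu, one_mul]
  have hσu' : σ u = u * q := by rw [hq, ← mul_assoc, hu, one_mul]
  have hσpow : ∀ i : ℤ, σ (q ^ i) = q ^ (-i) := fun i => by rw [map_zpow, hσq, inv_zpow']
  have hswap : ∀ i : ℤ, q ^ i * u = u * q ^ (-i) := by
    intro i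
    have h1 : u * q * u⁻¹ = q⁻¹ := by rw [hui]; exact huq
    have h2 : (u * q * u⁻¹) ^ (-i) = u * q ^ (-i) * u⁻¹ := conj_zpow
    rw [h1, inv_zpow', neg_neg] at h2
    rw [h2, inv_mul_cancel_right]
  have hq1 : q ≠ 1 := by
    intro h
    have : σ u = u := by rw [hσu', h, mul_one]
    rcases hfix u this with h' | h'
    exacts [hu1 h', huc h']
  obtain ⟨n, hn⟩ := IsPGroup.iff_orderOf.mp hQ q
  have hn1 : 1 ≤ n := by
    rcases Nat.eq_zero_or_pos n with h | h
    · rw [h, pow_zero, orderOf_eq_one_iff] at hn; exact absurd hn hq1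
    · exact h
  have hhalf2 : q ^ (2 ^ (n - 1)) * q ^ (2 ^ (n - 1)) = 1 := by
    rw [← pow_add, ← two_mul, ← pow_succ', Nat.sub_add_cancel hn1, ← hn, pow_orderOf_eq_one]
  have hc : q ^ (2 ^ (n - 1)) = c := by
    have hne : q ^ (2 ^ (n - 1)) ≠ 1 :=
      pow_ne_one_of_lt_orderOf (pow_ne_zero _ two_ne_zero)
        (by rw [hn]; exact Nat.pow_lt_pow_right one_lt_two (by omega))
    refine (hfix _ ?_).resolve_left hne
    rw [map_pow, hσq, inv_pow, inv_eq_of_mul_eq_one_right hhalf2]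
  refine ⟨n, hn1, hσq, huq, hn, hc, ?_⟩
  let K : Subgroup Q :=
    { carrier := {x | ∃ i : ℤ, x = q ^ i ∨ x = u * q ^ i}
      one_mem' := ⟨0, Or.inl (zpow_zero q).symm⟩
      mul_mem' := by
        rintro a b ⟨i, rfl | rfl⟩ ⟨j, rfl | rfl⟩
        · exact ⟨i + j, Or.inl (zpow_add q i j).symm⟩
        · exact ⟨-i + j, Or.inr (by rw [← mul_assoc, hswap, mul_assoc, ← zpow_add])⟩
        · exact ⟨i + j, Or.inr (by rw [mul_assoc, ← zpow_add])⟩
        · refine ⟨-i + j, Or.inl ?_⟩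
          rw [mul_assoc, ← mul_assoc (q ^ i), hswap, mul_assoc u (q ^ (-i)), ← zpow_add, ← mul_assoc,
            hu, one_mul]
      inv_mem' := by
        rintro a ⟨i, rfl | rfl⟩
        · exact ⟨-i, Or.inl (zpow_neg q i).symm⟩
        · exact ⟨i, Or.inr (by rw [mul_inv_rev, hui, ← zpow_neg, hswap, neg_neg])⟩ }
  have hσK : ∀ x ∈ K, σ x ∈ K := by
    rintro x ⟨i, rfl | rfl⟩
    · exact ⟨-i, Or.inl (hσpow i)⟩
    · exact ⟨1 + -i, Or.inr (by rw [map_mul, hσpow, hσu', mul_assoc, zpow_add, zpow_one])⟩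
  suffices hK : K = ⊤ by
    intro x
    obtain ⟨i, hi⟩ : x ∈ K := hK ▸ Subgroup.mem_top x
    exact ⟨i, hi⟩
  by_contra hK
  haveI : Group.IsNilpotent Q := hQ.isNilpotent
  have hlt : K < Subgroup.normalizer (K : Set Q) :=
    Group.normalizerCondition_of_isNilpotent K (lt_top_iff_ne_top.mpr hK)
  set N := Subgroup.normalizer (K : Set Q) with hN
  have hσN : ∀ x ∈ N, σ x ∈ N := by
    intro x hx
    rw [hN, Subgroup.mem_normalizer_iff] at hx ⊢
    intro k
    constructor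
    · intro hk
      have := hσK _ ((hx (σ k)).mp (hσK k hk))
      rwa [map_mul, map_mul, map_inv, hσ] at this
    · intro hk
      have := hσK _ hk
      rw [map_mul, map_mul, map_inv, hσ] at this
      have := hσK _ ((hx (σ k)).mpr this)
      rwa [hσ] at this
  -- an involution on the cosets of `K` in `N` fixing the trivial one
  haveI : Fintype (N ⧸ K.subgroupOf N) := Fintype.ofFinite _
  let g : N ⧸ K.subgroupOf N → N ⧸ K.subgroupOf N :=
    Quotient.map' (fun x : N => (⟨σ x, hσN x x.2⟩ : N)) fun a b hab => by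
      rw [QuotientGroup.leftRel_apply, Subgroup.mem_subgroupOf] at hab ⊢
      have := hσK _ hab
      simpa using this
  have hg : ∀ y, g (g y) = y := by
    intro y
    induction y using QuotientGroup.induction_on with
    | H x => exact congrArg QuotientGroup.mk (Subtype.ext (hσ x))
  let π : Equiv.Perm (N ⧸ K.subgroupOf N) := ⟨g, g, hg, hg⟩
  have hπ : π ^ 2 ^ 1 = 1 := Equiv.ext fun y => by rw [pow_one, pow_two]; exact hg y
  have h2 : 2 ∣ Fintype.card (N ⧸ K.subgroupOf N) := by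
    rw [← Nat.card_eq_fintype_card, ← Subgroup.index_eq_card]
    obtain ⟨k, hk⟩ := IsPGroup.iff_card.mp (hQ.to_subgroup N)
    have hd : (K.subgroupOf N).index ∣ 2 ^ k := hk ▸ Subgroup.index_dvd_card _
    obtain ⟨j, -, hj⟩ := (Nat.dvd_prime_pow Nat.prime_two).mp hd
    rw [hj]
    refine dvd_pow_self 2 fun hj0 => ?_
    rw [hj0, pow_zero, Subgroup.index_eq_one, Subgroup.subgroupOf_eq_top] at hj
    exact absurd hj hlt.not_ge
  obtain ⟨y, hy, hy1⟩ := Equiv.Perm.exists_fixed_point_of_prime' h2 hπ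
    (a := (QuotientGroup.mk (1 : N) : N ⧸ K.subgroupOf N))
    (congrArg QuotientGroup.mk (Subtype.ext (map_one σ)))
  induction y using QuotientGroup.induction_on with
  | H x =>
    have hxK : (x : Q) ∉ K := fun h => hy1 (QuotientGroup.eq.mpr (by
      rw [mul_one, Subgroup.mem_subgroupOf]; exact K.inv_mem h))
    have hd : (x : Q)⁻¹ * σ x ∈ K := by
      have h' : (QuotientGroup.mk (⟨σ x, hσN x x.2⟩ : N) : N ⧸ K.subgroupOf N) = QuotientGroup.mk x :=
        hy
      have := QuotientGroup.eq.mp h'.symm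
      simpa [Subgroup.mem_subgroupOf] using this
    have hσd : σ ((x : Q)⁻¹ * σ x) = ((x : Q)⁻¹ * σ x)⁻¹ := by
      rw [map_mul, map_inv, hσ, mul_inv_rev, inv_inv]
    obtain ⟨i, hi | hi⟩ := hd
    · have key : ∃ k ∈ K, σ ((x : Q) * k) = (x : Q) * k := by
        have hσx : σ x = (x : Q) * q ^ i := by rw [← hi, mul_inv_cancel_left]
        rcases Int.even_or_odd' i with ⟨j, rfl | rfl⟩
        · refine ⟨q ^ j, ⟨j, Or.inl rfl⟩, ?_⟩
          rw [map_mul, hσpow, hσx, mul_assoc, ← zpow_add]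
          congr 2
          omega
        · refine ⟨u * q ^ (-j), ⟨-j, Or.inr rfl⟩, ?_⟩
          rw [map_mul, map_mul, hσpow, hσx, hσu', neg_neg, mul_assoc, ← mul_assoc (q ^ (2 * j + 1)),
            ← mul_assoc (q ^ (2 * j + 1)), hswap, mul_assoc u, mul_assoc u]
          congr 2
          nth_rw 2 [← zpow_one q]
          rw [← zpow_add, ← zpow_add]
          congr 1
          omega
      obtain ⟨k, hk, hk'⟩ := key
      rcases hfix _ hk' with h | h
      · exact hxK ((K.mul_mem_cancel_right hk).mp (h ▸ K.one_mem))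
      · exact hxK ((K.mul_mem_cancel_right hk).mp (h ▸ ⟨((2 ^ (n - 1) : ℕ) : ℤ), Or.inl (by
          rw [zpow_natCast, hc])⟩))
    · rw [hi, map_mul, hσpow, hσu', mul_inv_rev, hui, ← zpow_neg, hswap, neg_neg, mul_assoc] at hσd
      have h' := mul_left_cancel hσd
      rw [← zpow_one_add, zpow_eq_zpow_iff_modEq, hn, Int.modEq_iff_dvd] at h'
      have h2' : (2 : ℤ) ∣ i - (1 + -i) :=
        dvd_trans (dvd_pow_self (2 : ℤ) (by omega : n ≠ 0)) (by push_cast at h'; exact h')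
      omega

variable {A : Type*} [Group A]

/-- An invariant normal four-group `{1, f * f, e, e * (f * f)}` of an invariant 2-subgroup `T ∋ f`. -/
structure NormalFour (σ : MulAut A) (f : A) (T : Subgroup A) (e : A) : Prop where
  hyp : FixHyp σ f
  isP : IsPGroup 2 T
  inv : ∀ x ∈ T, σ x ∈ T
  f_mem : f ∈ T
  e_mem : e ∈ T
  e_sq : e * e = 1
  e_ne_one : e ≠ 1
  e_ne_z : e ≠ f * f
  σ_e : σ e = e * (f * f)
  z_comm : ∀ x ∈ T, x * (f * f) = f * f * x
  e_conj : ∀ x ∈ T, x * e * x⁻¹ = e ∨ x * e * x⁻¹ = e * (f * f)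

namespace NormalFour

variable {σ : MulAut A} {f e : A} {T : Subgroup A} (W : NormalFour σ f T e)
include W

theorem ez : e * (f * f) = f * f * e := W.z_comm e W.e_mem

theorem e_inv : e⁻¹ = e := inv_eq_of_mul_eq_one_right W.e_sq

theorem z_mem : f * f ∈ T := T.mul_mem W.f_mem W.f_mem

/-- The four-group. -/
def four : Subgroup A where
  carrier := {x | x = 1 ∨ x = f * f ∨ x = e ∨ x = e * (f * f)}
  one_mem' := Or.inl rfl
  inv_mem' := by
    rintro x (rfl | rfl | rfl | rfl)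
    · simp
    · exact Or.inr (Or.inl W.hyp.z_inv)
    · exact Or.inr (Or.inr (Or.inl W.e_inv))
    · exact Or.inr (Or.inr (Or.inr (by rw [mul_inv_rev, W.hyp.z_inv, W.e_inv, W.ez])))
  mul_mem' := by
    have hz := W.hyp.z_sq
    have he := W.e_sq
    have h1 : f * f * e = e * (f * f) := W.ez.symm
    have h2 : f * f * (e * (f * f)) = e := by rw [← mul_assoc, h1, mul_assoc, hz, mul_one]
    have h3 : e * (f * f) * (f * f) = e := by rw [mul_assoc, hz, mul_one]
    have h4 : e * (e * (f * f)) = f * f := by rw [← mul_assoc, he, one_mul]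
    have h5 : e * (f * f) * e = f * f := by rw [mul_assoc, h1, h4]
    have h6 : e * (f * f) * (e * (f * f)) = 1 := by rw [mul_assoc, h2, he]
    intro x y hx hy
    rcases hx with hx | hx | hx | hx <;> rcases hy with hy | hy | hy | hy <;>
      rw [hx, hy] <;>
      simp [hz, he, h1, h2, h3, h4, h5, h6]

theorem mem_four {x : A} : x ∈ W.four ↔ x = 1 ∨ x = f * f ∨ x = e ∨ x = e * (f * f) := Iff.rfl

theorem z_mem_four : f * f ∈ W.four := Or.inr (Or.inl rfl)

theorem e_mem_four : e ∈ W.four := Or.inr (Or.inr (Or.inl rfl))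

theorem four_le : W.four ≤ T := by
  rintro x (rfl | rfl | rfl | rfl)
  exacts [T.one_mem, W.z_mem, W.e_mem, T.mul_mem W.e_mem W.z_mem]

theorem ez_ne : e * (f * f) ≠ e := fun h => W.hyp.z_ne_one (by simpa using h)

theorem ez_ne_z : e * (f * f) ≠ f * f := fun h => W.e_ne_one (by simpa using h)

theorem ez_ne_one : e * (f * f) ≠ 1 := fun h =>
  W.e_ne_z (by rw [eq_inv_of_mul_eq_one_left h, W.hyp.z_inv])

theorem four_sq {x : A} (hx : x ∈ W.four) : x * x = 1 := by
  rcases hx with rfl | rfl | rfl | rfl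
  · exact one_mul 1
  · exact W.hyp.z_sq
  · exact W.e_sq
  · rw [mul_assoc e, ← mul_assoc (f * f) e, ← W.ez, mul_assoc e, W.hyp.z_sq, mul_one, W.e_sq]

theorem four_inv {x : A} (hx : x ∈ W.four) : x⁻¹ = x := inv_eq_of_mul_eq_one_right (W.four_sq hx)

theorem four_comm {x y : A} (hx : x ∈ W.four) (hy : y ∈ W.four) : x * y = y * x := by
  have h := W.four_inv (W.four.mul_mem hx hy)
  rw [mul_inv_rev, W.four_inv hx, W.four_inv hy] at h
  exact h.symm

theorem conj_four {x : A} (hx : x ∈ T) {a : A} (ha : a ∈ W.four) : x * a * x⁻¹ ∈ W.four := by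
  have hzx : x * (f * f) * x⁻¹ = f * f := by rw [W.z_comm x hx, mul_inv_cancel_right]
  have he : x * e * x⁻¹ ∈ W.four := by
    rcases W.e_conj x hx with h | h <;> rw [h]
    exacts [W.e_mem_four, W.four.mul_mem W.e_mem_four W.z_mem_four]
  rcases ha with rfl | rfl | rfl | rfl
  · simp
  · rw [hzx]; exact W.z_mem_four
  · exact he
  · rw [← conj_mul, hzx]; exact W.four.mul_mem he W.z_mem_four

theorem σ_four {a : A} (ha : a ∈ W.four) : σ a ∈ W.four := by
  rcases ha with rfl | rfl | rfl | rfl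
  · simp
  · rw [W.hyp.z_fix]; exact W.z_mem_four
  · rw [W.σ_e]; exact W.four.mul_mem W.e_mem_four W.z_mem_four
  · rw [map_mul, W.σ_e, W.hyp.z_fix, mul_assoc, W.hyp.z_sq, mul_one]; exact W.e_mem_four

theorem σ_ez : σ (e * (f * f)) = e := by
  rw [map_mul, W.σ_e, W.hyp.z_fix, mul_assoc, W.hyp.z_sq, mul_one]

theorem f_notMem : f ∉ W.four := fun h => W.hyp.z_ne_one (W.four_sq h)

theorem four_normal : (W.four.subgroupOf T).Normal :=
  ⟨fun a ha x => by
    rw [Subgroup.mem_subgroupOf] at ha ⊢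
    simpa using W.conj_four x.2 ha⟩

/-- Modulo the four-group, `σ` fixes only the class of `f`. -/
theorem coset_fixed [Finite A] {x : A} (hx : x ∈ T) (h : x⁻¹ * σ x ∈ W.four) :
    x ∈ W.four ∨ f⁻¹ * x ∈ W.four := by
  have aux : ∀ y ∈ T, σ y = y → y ∈ W.four ∨ f⁻¹ * y ∈ W.four := by
    intro y hy hσy
    rcases W.hyp.fixed_mem W.isP W.f_mem hy hσy with h | h | h | h <;> rw [h]
    · exact Or.inl W.four.one_mem
    · exact Or.inr (by simp)
    · exact Or.inl W.z_mem_four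
    · exact Or.inr (by rw [inv_mul_cancel_left]; exact W.z_mem_four)
  have hd : σ (x⁻¹ * σ x) = x⁻¹ * σ x := by
    rw [map_mul, map_inv, W.hyp.sq]
    rw [← W.four_inv h, mul_inv_rev, inv_inv]
  rcases h with h | h | h | h
  · exact aux x hx (inv_mul_eq_one.mp h).symm
  · have hσx : σ x = x * (f * f) := by rw [← h, mul_inv_cancel_left]
    rcases aux (x * e) (T.mul_mem hx W.e_mem) (by
        rw [map_mul, hσx, W.σ_e, mul_assoc, ← mul_assoc (f * f) e, ← W.ez, mul_assoc e, W.hyp.z_sq,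
          mul_one]) with h' | h'
    · exact Or.inl ((W.four.mul_mem_cancel_right W.e_mem_four).mp h')
    · refine Or.inr ((W.four.mul_mem_cancel_right W.e_mem_four).mp ?_)
      rwa [mul_assoc]
  · rw [h, W.σ_e] at hd; exact absurd hd W.ez_ne
  · rw [h, W.σ_ez] at hd; exact absurd hd.symm W.ez_ne

/-- The dihedral structure of `T / E` given an element outside `E ∪ f E` squaring into `E`. -/
theorem dihedral_mod [Finite A] {u : A} (hu : u ∈ T) (hu2 : u * u ∈ W.four) (huE : u ∉ W.four)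
    (huf : f⁻¹ * u ∉ W.four) :
    ∃ n : ℕ, 1 ≤ n ∧ σ (u⁻¹ * σ u) = (u⁻¹ * σ u)⁻¹ ∧
      u * (u⁻¹ * σ u) * u⁻¹ * (u⁻¹ * σ u) ∈ W.four ∧
      (∀ i : ℤ, (u⁻¹ * σ u) ^ i ∈ W.four ↔ ((2 ^ n : ℕ) : ℤ) ∣ i) ∧
      f⁻¹ * (u⁻¹ * σ u) ^ (2 ^ (n - 1)) ∈ W.four ∧
      ∀ x ∈ T, ∃ i : ℤ, ((u⁻¹ * σ u) ^ i)⁻¹ * x ∈ W.four ∨
        (u * (u⁻¹ * σ u) ^ i)⁻¹ * x ∈ W.four := by
  haveI := W.four_normal
  set E' := W.four.subgroupOf T with hE'
  set s := restrictAut W.hyp.sq T W.inv with hs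
  have hEmap : E'.map s.toMonoidHom = E' := by
    refine Subgroup.eq_of_le_of_card_ge ?_ ?_
    · rintro _ ⟨x, hx, rfl⟩
      exact W.σ_four hx
    · rw [Subgroup.card_map_of_injective s.injective]
  let τ : MulAut (T ⧸ E') := QuotientGroup.congr E' E' s hEmap
  have hτ : ∀ x : T, τ (x : T ⧸ E') = ((s x : T) : T ⧸ E') := fun x => rfl
  have hQ : IsPGroup 2 (T ⧸ E') := W.isP.to_quotient E'
  have heq : ∀ x y : T, ((x : T ⧸ E') = y) ↔ ((x : A))⁻¹ * y ∈ W.four := fun x y => by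
    rw [QuotientGroup.eq, Subgroup.mem_subgroupOf]; rfl
  have hmem : ∀ x : T, ((x : T ⧸ E') = 1) ↔ (x : A) ∈ W.four := fun x => by
    rw [QuotientGroup.eq_one_iff, Subgroup.mem_subgroupOf]
  let u' : T := ⟨u, hu⟩
  let f' : T := ⟨f, W.f_mem⟩
  have hfix : ∀ y : T ⧸ E', τ y = y → y = 1 ∨ y = f' := by
    intro y hy
    induction y using QuotientGroup.induction_on with
    | H x =>
      rw [hτ, eq_comm, heq] at hy
      rcases W.coset_fixed x.2 hy with h | h
      · exact Or.inl ((hmem x).mpr h)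
      · exact Or.inr ((heq f' x).mpr h).symm
  obtain ⟨n, hn, h1, h2, h3, h4, h5⟩ := dihedral_of_fixed_two hQ τ
    (fun y => by
      induction y using QuotientGroup.induction_on with
      | H x => rw [hτ, hτ]; exact congrArg QuotientGroup.mk (Subtype.ext (W.hyp.sq x)))
    (c := (f' : T ⧸ E')) (fun h => W.f_notMem ((hmem f').mp h)) hfix (u := (u' : T ⧸ E'))
    ((hmem (u' * u')).mpr hu2)
    (fun h => huE ((hmem u').mp h)) (fun h => huf ((heq f' u').mp h.symm))
  let q' : T := u'⁻¹ * s u'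
  have hq : (u' : T ⧸ E') * τ u' = (q' : T ⧸ E') := by
    rw [hτ, ← QuotientGroup.mk_mul, heq]
    show (u * σ u)⁻¹ * (u⁻¹ * σ u) ∈ W.four
    rw [show (u * σ u)⁻¹ * (u⁻¹ * σ u) = (σ u)⁻¹ * (u * u)⁻¹ * σ u by group]
    have hσuT := W.inv u hu
    simpa using W.conj_four (T.inv_mem hσuT) (W.four.inv_mem hu2)
  rw [hq] at h2 h3 h4 h5
  have hui : (u' : T ⧸ E')⁻¹ = u' := inv_eq_of_mul_eq_one_right ((hmem (u' * u')).mpr hu2)
  refine ⟨n, hn, ?_, ?_, ?_, ?_, ?_⟩
  · rw [map_mul, map_inv, W.hyp.sq, mul_inv_rev, inv_inv]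
  · have h2' : ((u' * q' * u'⁻¹ * q' : T) : T ⧸ E') = 1 := by
      rw [QuotientGroup.mk_mul, QuotientGroup.mk_mul, QuotientGroup.mk_mul, QuotientGroup.mk_inv, hui,
        h2, inv_mul_cancel]
    exact (hmem _).mp h2'
  · intro i
    have : (((q' ^ i : T)) : T ⧸ E') = 1 ↔ ((2 ^ n : ℕ) : ℤ) ∣ i := by
      rw [QuotientGroup.mk_zpow, ← orderOf_dvd_iff_zpow_eq_one, h3]
    rw [← this, hmem]
    simp [q', u', s]
  · rw [← QuotientGroup.mk_pow] at h4
    have := (heq f' (q' ^ 2 ^ (n - 1))).mp h4.symm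
    simpa [q', u', s, f'] using this
  · intro x hx
    obtain ⟨i, hi | hi⟩ := h5 ((⟨x, hx⟩ : T) : T ⧸ E')
    · refine ⟨i, Or.inl ?_⟩
      rw [← QuotientGroup.mk_zpow] at hi
      simpa [q', u', s] using (heq _ _).mp hi.symm
    · refine ⟨i, Or.inr ?_⟩
      rw [← QuotientGroup.mk_zpow, ← QuotientGroup.mk_mul] at hi
      simpa [q', u', s] using (heq _ _).mp hi.symm

end NormalFour

end CfsgLib.CyclicFourFix23
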