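import Cfsg.Agent.CyclicFourFix23.Quot

/-!
Small tools.
-/

set_option autoImplicit false
set_option linter.style.haveILetI false

open scoped commutatorElement

namespace CfsgLib.CyclicFourFix23

variable {A : Type*} [Group A]

theorem not_index_two (hperf : commutator A = ⊤) {H : Subgroup A} (h : H.index = 2) : False := by
  haveI := Subgroup.normal_of_index_eq_two h
  haveI : Fact (Nat.Prime 2) := ⟨Nat.prime_two⟩
  haveI : IsCyclic (A ⧸ H) := isCyclic_of_prime_card (p := 2) (by rw [← Subgroup.index_eq_card, h])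
  have hle : commutator A ≤ H := by
    rw [commutator_def, Subgroup.commutator_le]
    intro a _ b _
    rw [← QuotientGroup.eq_one_iff]
    show (QuotientGroup.mk' H) ⁅a, b⁆ = 1
    rw [map_commutatorElement, commutatorElement_eq_one_iff_mul_comm]
    exact IsCyclic.commGroup.mul_comm _ _
  rw [hperf, top_le_iff] at hle
  rw [hle, Subgroup.index_top] at h
  omega

theorem exists_twoPart_pow [Finite A] (g : A) : ∃ m, Odd m ∧ ∃ k, orderOf (g ^ m) = 2 ^ k := by
  obtain ⟨k, m, hm, he⟩ := Nat.exists_eq_pow_mul_and_not_dvd (orderOf_pos g).ne' 2 (by norm_num)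
  have hodd : Odd m := Nat.not_even_iff_odd.mp fun h => hm (even_iff_two_dvd.mp h)
  refine ⟨m, hodd, k, ?_⟩
  rw [orderOf_pow' g hodd.pos.ne', he, Nat.gcd_eq_right (dvd_mul_left m _), Nat.mul_div_cancel _ hodd.pos]

theorem conj_odd_pow {g a b : A} (h1 : g * a * g⁻¹ = b) (h2 : g * b * g⁻¹ = a) {m : ℕ} (hm : Odd m) :
    g ^ m * a * (g ^ m)⁻¹ = b := by
  obtain ⟨j, rfl⟩ := hm
  have h22 : ∀ i : ℕ, g ^ (2 * i) * a * (g ^ (2 * i))⁻¹ = a := by
    intro i
    induction i with
    | zero => simp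
    | succ i ih =>
      calc g ^ (2 * (i + 1)) * a * (g ^ (2 * (i + 1)))⁻¹
          = g * (g * (g ^ (2 * i) * a * (g ^ (2 * i))⁻¹) * g⁻¹) * g⁻¹ := by
            rw [show 2 * (i + 1) = 1 + 1 + 2 * i by ring, pow_add, pow_add, pow_one]; group
        _ = a := by rw [ih, h1, h2]
  calc g ^ (2 * j + 1) * a * (g ^ (2 * j + 1))⁻¹
      = g * (g ^ (2 * j) * a * (g ^ (2 * j))⁻¹) * g⁻¹ := by rw [pow_succ']; group
    _ = b := by rw [h22, h1]

/-- An involutive automorphism fixes a nontrivial coset of an invariant proper subgroup of an invariant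
2-subgroup. -/
theorem exists_fixed_coset [Finite A] {σ : MulAut A} (hσ : ∀ a, σ (σ a) = a) {K N : Subgroup A}
    (hN : IsPGroup 2 N) (hlt : K < N) (hσK : ∀ x ∈ K, σ x ∈ K) (hσN : ∀ x ∈ N, σ x ∈ N) :
    ∃ y ∈ N, y ∉ K ∧ y⁻¹ * σ y ∈ K := by
  haveI : Fact (Nat.Prime 2) := ⟨Nat.prime_two⟩
  haveI : Fintype (N ⧸ K.subgroupOf N) := Fintype.ofFinite _
  classical
  let g : N ⧸ K.subgroupOf N → N ⧸ K.subgroupOf N :=
    Quotient.map' (fun x : N => (⟨σ x, hσN x x.2⟩ : N)) fun a b hab => by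
      rw [QuotientGroup.leftRel_apply, Subgroup.mem_subgroupOf] at hab ⊢
      have := hσK _ hab
      simpa using this
  have hg : ∀ y, g (g y) = y := by
    intro y
    induction y using QuotientGroup.induction_on with
    | H x => exact congrArg QuotientGroup.mk (Subtype.ext (hσ x))
  let π : Equiv.Perm (N ⧸ K.subgroupOf N) := ⟨g, g, hg, hg⟩
  have hπ : π ^ 2 ^ 1 = 1 := Equiv.ext fun y => by rw [pow_one, pow_two]; exact hg y
  have h2 : 2 ∣ Fintype.card (N ⧸ K.subgroupOf N) := by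
    rw [← Nat.card_eq_fintype_card, ← Subgroup.index_eq_card]
    obtain ⟨k, hk⟩ := IsPGroup.iff_card.mp hN
    have hd : (K.subgroupOf N).index ∣ 2 ^ k := hk ▸ Subgroup.index_dvd_card _
    obtain ⟨j, -, hj⟩ := (Nat.dvd_prime_pow Nat.prime_two).mp hd
    rw [hj]
    refine dvd_pow_self 2 fun hj0 => ?_
    rw [hj0, pow_zero, Subgroup.index_eq_one, Subgroup.subgroupOf_eq_top] at hj
    exact absurd hj hlt.not_ge
  obtain ⟨y, hy, hy1⟩ := Equiv.Perm.exists_fixed_point_of_prime' h2 hπ
    (a := (QuotientGroup.mk (1 : N) : N ⧸ K.subgroupOf N))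
    (congrArg QuotientGroup.mk (Subtype.ext (map_one σ)))
  induction y using QuotientGroup.induction_on with
  | H x =>
    refine ⟨x, x.2, fun h => hy1 (QuotientGroup.eq.mpr (by
      rw [mul_one, Subgroup.mem_subgroupOf]; exact K.inv_mem h)), ?_⟩
    have h' : (QuotientGroup.mk (⟨σ x, hσN x x.2⟩ : N) : N ⧸ K.subgroupOf N) = QuotientGroup.mk x := hy
    simpa [Subgroup.mem_subgroupOf] using QuotientGroup.eq.mp h'.symm

namespace NormalFour

variable {σ : MulAut A} {f e : A} {T : Subgroup A} (W : NormalFour σ f T e)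
include W

theorem card_four : Nat.card W.four = 4 := by
  classical
  have h : (W.four : Set A) = ({1, f * f, e, e * (f * f)} : Finset A) := by
    ext x
    simp [W.mem_four]
  show Nat.card (W.four : Set A) = 4
  rw [Nat.card_coe_set_eq, h, Set.ncard_coe_finset]
  simp [Finset.card_insert_of_notMem, W.hyp.z_ne_one.symm, W.e_ne_one.symm, W.ez_ne_one.symm,
    W.e_ne_z.symm, W.ez_ne_z.symm, W.ez_ne.symm]

theorem e_conj_f : f * e * f⁻¹ = e ∨ f * e * f⁻¹ = e * (f * f) := W.e_conj f W.f_mem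

theorem commute_four {x : A} (hx : x ∈ T) (he : x * e = e * x) {a : A} (ha : a ∈ W.four) :
    x * a = a * x := by
  rcases ha with rfl | rfl | rfl | rfl
  · simp
  · exact W.z_comm x hx
  · exact he
  · rw [← mul_assoc, he, mul_assoc, W.z_comm x hx, ← mul_assoc]

end NormalFour

end CfsgLib.CyclicFourFix23
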